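/-
Classes of 3-transpositions with disconnected commuting graph: the parts modulo the layer.

Main definitions: `Tri`, `part`, `top`, `topD`.
Main results: `exists_tri`, `Tri.top_class`, `Tri.top_simple`, `Tri.transport`, `Tri.three_dvd_out`,
`Tri.quotient_perm_three`.
-/
import Mathlib.Data.Fintype.Perm
import Cfsg.Agent.Lib.ThreeTrans.Structure

set_option autoImplicit false

namespace Cfsg.Agent.Disconn

open Cfsg Cfsg.Agent.ThreeTrans Cfsg.Agent.ThreeTransRank Cfsg.Agent.Components

variable {G : Type*} [Group G] {D : Set G} {L : Subgroup G}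

/-- A class of 3-transpositions with several parts modulo the simple layer `L`. -/
structure Tri (D : Set G) (L : Subgroup G) : Prop where
  cls : IsThreeTranspositionClass D
  normal : L.Normal
  simple : IsSimpleGroup ↥L
  perf : ⁅L, L⁆ = L
  cent : Subgroup.centralizer (L : Set G) = ⊥
  notMem : ∀ d ∈ D, d ∉ L
  out : ∀ d ∈ D, ∃ e ∈ D, d⁻¹ * e ∉ L
  pairs : ∀ d ∈ D, ∃ k ∈ L, k * d * k⁻¹ ≠ d ∧ Commute d (k * d * k⁻¹)
  cong : ∀ a ∈ D, ∀ b ∈ D, Commute a b → a⁻¹ * b ∈ L

/-- The members congruent to `d` modulo `L`. -/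
def part (D : Set G) (L : Subgroup G) (d : G) : Set G := {u | u ∈ D ∧ d⁻¹ * u ∈ L}

/-- The hypotheses of the triality theorem give the setting, with `L` the generalised Fitting subgroup. -/
theorem exists_tri [Finite G] (hD : IsThreeTranspositionClass D) (hZ : Subgroup.center G = ⊥)
    (h2 : pCore 2 G = ⊥) (h3 : pCore 3 G = ⊥) (hdisc : ¬ (commutingGraph D).Connected) :
    ∃ L : Subgroup G, Tri D L ∧ generalizedFittingSubgroup G = L := by
  obtain ⟨d₀, hd₀, -⟩ := id hD.2.1
  have hc : CentralCores G := ⟨h2.le.trans bot_le, h3.le.trans bot_le⟩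
  have hdis : ¬ ConnectedComm D := fun h => hdisc (connected_iff.2 ⟨⟨d₀, hd₀⟩, h⟩)
  have htwo : ∃ a ∈ D, ∃ b ∈ D, a ≠ b := by
    by_contra h
    push Not at h
    exact hdis fun x hx y hy => h x hx y hy ▸ Relation.ReflTransGen.refl
  obtain ⟨L, hL, hLn, -⟩ := exists_component hD htwo hc
  have hF : generalizedFittingSubgroup G = L := by rw [genFitting_eq hD hc hL, hZ, sup_bot_eq]
  have hC : Subgroup.centralizer (L : Set G) = ⊥ :=
    le_bot_iff.1 (hZ ▸ centralizer_component_le_center hD hc hL)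
  have hZL : Subgroup.center ↥L = ⊥ := by
    rw [eq_bot_iff]
    intro x hx
    have hx' : (x : G) ∈ Subgroup.centralizer (L : Set G) := Subgroup.mem_centralizer_iff.2
      fun y hy => congrArg Subtype.val (Subgroup.mem_center_iff.1 hx ⟨y, hy⟩)
    rw [hC, Subgroup.mem_bot] at hx'
    exact Subtype.ext hx'
  have hs : IsSimpleGroup ↥L := by
    have := hL.2.2
    have : Nontrivial ↥L := (Subgroup.nontrivial_iff_ne_bot L).2 (IsComponent.ne_bot hL)
    exact IsSimpleGroup.isSimpleGroup_of_surjective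
      ((QuotientGroup.quotientMulEquivOfEq hZL).trans QuotientGroup.quotientBot).toMonoidHom
      ((QuotientGroup.quotientMulEquivOfEq hZL).trans QuotientGroup.quotientBot).surjective
  have hg := group_of_class hD
  have hnotMem : ∀ d ∈ D, d ∉ L := by
    intro d hd hdL
    have htop : L = ⊤ := by
      rw [eq_top_iff, ← hD.2.2, Subgroup.closure_le]
      intro v hv
      obtain ⟨g, rfl⟩ := class_conj hD hd hv
      exact hLn.conj_mem d hdL g
    exact hdis (connected_of_index_le_two hD htwo hc hL (by rw [htop, Subgroup.index_top]; norm_num))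
  refine ⟨L, ⟨hD, hLn, hs, IsComponent.perfect hL, hC, hnotMem, fun d hd => ?_, fun d hd =>
    (component_pairs hD hL hd).2, fun a ha b hb h => inv_mul_mem_component hD htwo hc hL ha hb h⟩, hF⟩
  by_contra hcon
  push Not at hcon
  refine hdis (connected_of_index_le_two hD htwo hc hL ?_)
  have htop : Subgroup.zpowers (QuotientGroup.mk' L d) = ⊤ := by
    rw [eq_top_iff, ← Subgroup.map_top_of_surjective _ (QuotientGroup.mk'_surjective L), ← hD.2.2,
      MonoidHom.map_closure, Subgroup.zpowers_eq_closure]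
    refine Subgroup.closure_mono ?_
    rintro _ ⟨e, he, rfl⟩
    exact (QuotientGroup.eq.2 (hcon e he)).symm
  rw [Subgroup.index_eq_card, ← Subgroup.card_top, ← htop, Nat.card_zpowers]
  exact orderOf_le_of_pow_eq_one two_pos
    (by rw [← map_pow, pow_two, mul_self hD.1 hd, map_one])

set_option synthInstance.maxSize 20000 in
theorem perm_four_triangle : ∀ p q : Equiv.Perm (Fin 4), p * p = 1 → q * q = 1 → p * q ≠ q * p →
    p * q * p = q * p * q →
    ∀ r, r * r = 1 → r ≠ 1 → (p = r ∨ p * r ≠ r * p ∧ p * r * p = r * p * r) →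
    (q = r ∨ q * r ≠ r * q ∧ q * r * q = r * q * r) →
    (p * q * p = r ∨ p * q * p * r ≠ r * (p * q * p)) → r = p ∨ r = q ∨ r = p * q * p := by
  decide +kernel

set_option synthInstance.maxSize 20000 in
theorem perm_four_center : ∀ p q : Equiv.Perm (Fin 4), p * p = 1 → q * q = 1 → p * q ≠ q * p →
    p * q * p = q * p * q → ∀ z, p * z = z * p → q * z = z * q → z = 1 := by
  decide +kernel

namespace Tri

variable (T : Tri D L)
include T

theorem set : IsThreeTranspositionSet D := T.cls.1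

theorem conjD (g : G) {d : G} (hd : d ∈ D) : g * d * g⁻¹ ∈ D := (group_of_class T.cls).2.1 g d hd

theorem conjL {l : G} (hl : l ∈ L) (g : G) : g * l * g⁻¹ ∈ L := T.normal.conj_mem l hl g

theorem conj_mem_part {d k : G} (hd : d ∈ D) (hk : k ∈ L) : k * d * k⁻¹ ∈ part D L d := by
  refine ⟨T.conjD k hd, ?_⟩
  rw [show d⁻¹ * (k * d * k⁻¹) = d⁻¹ * k * d⁻¹⁻¹ * k⁻¹ by group]
  exact L.mul_mem (T.conjL hk _) (L.inv_mem hk)

theorem part_eq {d u : G} (hd : d ∈ D) (hu : u ∈ part D L d) : d * u ∈ L := by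
  simpa [inv_eq T.set hd] using hu.2

/-- Conjugation to another part turns a product of two commuting members of a part into an element
centralising no member of the part. -/
theorem transport {d : G} (hd : d ∈ D) : ∃ g : G, ∀ x ∈ part D L d, ∀ x' ∈ part D L d, x ≠ x' →
    Commute x x' → ∀ u ∈ part D L d, ¬ Commute (g⁻¹ * (x * x') * g) u := by
  obtain ⟨e, he, hde⟩ := T.out d hd
  obtain ⟨g, hg⟩ := class_conj T.cls hd he
  refine ⟨g, fun x hx x' hx' hne hxx u hu hcom => ?_⟩
  set y := g * u * g⁻¹ with hy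
  have hyD : y ∈ D := T.conjD g hu.1
  have hey : e⁻¹ * y ∈ L := by
    rw [← hg, hy, show (g * d * g⁻¹)⁻¹ * (g * u * g⁻¹) = g * (d⁻¹ * u) * g⁻¹ by group]
    exact T.conjL hu.2 g
  have hnc : ∀ {v : G}, v ∈ part D L d → ¬ Commute v y := by
    intro v hv h
    refine hde ?_
    have h1 := L.mul_mem (L.mul_mem hv.2 (T.cong v hv.1 y hyD h)) (L.inv_mem hey)
    rwa [show d⁻¹ * v * (v⁻¹ * y) * (e⁻¹ * y)⁻¹ = d⁻¹ * e by group] at h1
  have hc2 : x * x' * y = y * (x * x') := by
    have := (Commute.map hcom (MulAut.conj g).toMonoidHom).eq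
    simpa [hy, mul_assoc] using this
  have hs := T.set
  have h1 := braid hs hx'.1 hyD (hnc hx')
  have h2 := braid hs hx.1 hyD (hnc hx)
  have e1 : x' * y * x' = x * y * x := by
    calc x' * y * x' = x * (x * x' * y) * x' := by
          simp only [mul_assoc, mul_self_cancel hs hx.1]
      _ = x * (y * (x * x')) * x' := by rw [hc2]
      _ = x * y * x := by simp only [mul_assoc, mul_self hs hx'.1, mul_one]
  rw [h1, h2] at e1
  exact hne (mul_left_cancel (mul_right_cancel e1)).symm

theorem false_of_fixed {d : G} (hd : d ∈ D)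
    (H : ∀ a ∈ L, a * a = 1 → a ≠ 1 → ∃ u ∈ part D L d, Commute a u) : False := by
  obtain ⟨g, hg⟩ := T.transport hd
  obtain ⟨k, hk, hne, hcom⟩ := T.pairs d hd
  have hdp : d ∈ part D L d := ⟨hd, by simp⟩
  have hx' := T.conj_mem_part hd hk
  have hsq : d * (k * d * k⁻¹) * (d * (k * d * k⁻¹)) = 1 := by
    calc _ = d * ((k * d * k⁻¹) * d) * (k * d * k⁻¹) := by simp only [mul_assoc]
      _ = d * (d * (k * d * k⁻¹)) * (k * d * k⁻¹) := by rw [hcom.eq]
      _ = 1 := by rw [mul_self_cancel T.set hd, mul_self T.set hx'.1]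
  obtain ⟨u, hu, hau⟩ := H (g⁻¹ * (d * (k * d * k⁻¹)) * g)
    (by simpa using T.conjL (T.part_eq hd hx') g⁻¹)
    (by rw [show g⁻¹ * (d * (k * d * k⁻¹)) * g * (g⁻¹ * (d * (k * d * k⁻¹)) * g) =
          g⁻¹ * (d * (k * d * k⁻¹) * (d * (k * d * k⁻¹))) * g by group, hsq]; simp)
    (fun h => hne (by
      have h' : d * (k * d * k⁻¹) = 1 := by simpa [mul_assoc] using congrArg (fun z => g * z * g⁻¹) h
      rw [mul_eq_one_iff_inv_eq, inv_eq T.set hd] at h'
      exact h'.symm))
  exact hg d hdp _ hx' hne.symm hcom u hu hau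

/-! ### the group generated by one part -/

/-- `L⟨d⟩`. -/
def top (_T : Tri D L) {d : G} (hd : d ∈ D) : Subgroup G where
  carrier := {g | g ∈ L ∨ d * g ∈ L}
  one_mem' := Or.inl L.one_mem
  mul_mem' := by
    have hdd : ∀ {l : G}, l ∈ L → d * l * d ∈ L := fun {l} hl => by
      simpa [inv_eq _T.set hd] using _T.conjL hl d
    intro a b ha hb
    rcases ha with ha | ha <;> rcases hb with hb | hb
    · exact Or.inl (mul_mem ha hb)
    · refine Or.inr ?_
      simpa [mul_assoc, mul_self_cancel _T.set hd] using mul_mem (hdd ha) hb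
    · exact Or.inr (by simpa [mul_assoc] using mul_mem ha hb)
    · refine Or.inl ?_
      simpa [mul_assoc, mul_self_cancel _T.set hd] using mul_mem (hdd ha) hb
  inv_mem' := by
    intro a ha
    rcases ha with ha | ha
    · exact Or.inl (inv_mem ha)
    · refine Or.inr ?_
      have := _T.conjL (inv_mem ha) d
      simpa [mul_assoc, inv_eq _T.set hd, mul_self _T.set hd] using this

theorem le_top {d : G} (hd : d ∈ D) : L ≤ T.top hd := fun _ h => Or.inl h

theorem mem_top_self {d : G} (hd : d ∈ D) : d ∈ T.top hd :=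
  Or.inr (by rw [mul_self T.set hd]; exact L.one_mem)

theorem part_le_top {d u : G} (hd : d ∈ D) (hu : u ∈ part D L d) : u ∈ T.top hd :=
  Or.inr (T.part_eq hd hu)

/-- The members of the class of `d` in `L⟨d⟩`. -/
def topD (_T : Tri D L) {d : G} (hd : d ∈ D) : Set ↥(_T.top hd) := {x | ∃ k ∈ L, k * d * k⁻¹ = (x : G)}

theorem topD_part {d : G} (hd : d ∈ D) {x : ↥(T.top hd)} (hx : x ∈ T.topD hd) : (x : G) ∈ part D L d := by
  obtain ⟨k, hk, e⟩ := hx
  exact e ▸ T.conj_mem_part hd hk

theorem closure_topD {d : G} (hd : d ∈ D) : Subgroup.closure (T.topD hd) = ⊤ := by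
  set C := (Subgroup.closure (T.topD hd)).map (T.top hd).subtype with hC
  have hdC : d ∈ C :=
    ⟨⟨d, T.mem_top_self hd⟩, Subgroup.subset_closure ⟨1, L.one_mem, by simp⟩, rfl⟩
  have hinv : ∀ l ∈ L, ∀ c ∈ C, l * c * l⁻¹ ∈ C := by
    intro l hl c hc
    obtain ⟨c, hc, rfl⟩ := hc
    induction hc using Subgroup.closure_induction with
    | mem x hx =>
      obtain ⟨k, hk, e⟩ := hx
      refine ⟨⟨l * x * l⁻¹, mul_mem (mul_mem (T.le_top hd hl) x.2) (inv_mem (T.le_top hd hl))⟩,
        Subgroup.subset_closure ⟨l * k, L.mul_mem hl hk, ?_⟩, rfl⟩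
      show l * k * d * (l * k)⁻¹ = l * x * l⁻¹
      rw [← e]; group
    | one => simp
    | mul u v _ _ hu hv => simpa [mul_assoc] using mul_mem hu hv
    | inv u _ hu => simpa [mul_assoc] using inv_mem hu
  have hn : (C.subgroupOf L).Normal := ⟨fun n hn l => hinv l l.2 n hn⟩
  have hne : C.subgroupOf L ≠ ⊥ := by
    obtain ⟨k, hk, hne, -⟩ := T.pairs d hd
    intro h
    have hmem : (⟨d * (k * d * k⁻¹), T.part_eq hd (T.conj_mem_part hd hk)⟩ : ↥L) ∈ C.subgroupOf L :=
      mul_mem hdC (hinv k hk d hdC)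
    rw [h, Subgroup.mem_bot] at hmem
    have h' : d * (k * d * k⁻¹) = 1 := congrArg Subtype.val hmem
    rw [mul_eq_one_iff_inv_eq, inv_eq T.set hd] at h'
    exact hne h'.symm
  have hLC : L ≤ C := Subgroup.subgroupOf_eq_top.1
    ((T.simple.eq_bot_or_eq_top_of_normal _ hn).resolve_left hne)
  refine Subgroup.map_injective (T.top hd).subtype_injective ?_
  rw [← MonoidHom.range_eq_map, Subgroup.range_subtype]
  refine le_antisymm (Subgroup.map_subtype_le _) fun g hg => ?_
  rcases hg with h | h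
  · exact hLC h
  · have := mul_mem hdC (hLC h)
    rwa [mul_self_cancel T.set hd] at this

theorem top_class {d : G} (hd : d ∈ D) : IsThreeTranspositionClass (T.topD hd) := by
  have hs := T.set
  refine ⟨⟨fun x hx => ?_, fun x hx y hy => ?_⟩, ⟨⟨d, T.mem_top_self hd⟩, ⟨1, L.one_mem, by simp⟩, ?_⟩,
    T.closure_topD hd⟩
  · rw [← Subgroup.orderOf_coe]; exact hs.1 _ (T.topD_part hd hx).1
  · exact (hs.2 _ (T.topD_part hd hx).1 _ (T.topD_part hd hy).1).imp
      (fun h => Subtype.ext h) (fun h => Subtype.ext h)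
  · ext x
    refine ⟨?_, fun hx => ?_⟩
    · rintro ⟨k, hk, e⟩
      exact isConj_iff.2 ⟨⟨k, T.le_top hd hk⟩, Subtype.ext e⟩
    · obtain ⟨c, rfl⟩ := isConj_iff.1 hx
      rcases c.2 with h | h
      · exact ⟨c, h, rfl⟩
      · refine ⟨d * ((d * c) * d), ?_, ?_⟩
        · simpa [inv_eq hs hd, mul_assoc] using T.conjL h d
        · show _ = (c : G) * d * (c : G)⁻¹
          simp only [mul_assoc, mul_self_cancel hs hd, mul_inv_rev, inv_eq hs hd, mul_self hs hd, mul_one]

theorem top_center {d : G} (hd : d ∈ D) : Subgroup.center ↥(T.top hd) = ⊥ := by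
  rw [eq_bot_iff]
  intro x hx
  have hx' : (x : G) ∈ Subgroup.centralizer (L : Set G) := Subgroup.mem_centralizer_iff.2
    fun y hy => congrArg Subtype.val (Subgroup.mem_center_iff.1 hx ⟨y, T.le_top hd hy⟩)
  rw [T.cent, Subgroup.mem_bot] at hx'
  exact Subtype.ext hx'

theorem top_commutator [Finite G] {d : G} (hd : d ∈ D) : commutator ↥(T.top hd) = L.subgroupOf (T.top hd) := by
  refine le_antisymm ?_ ?_
  · have hn := T.normal
    refine commutator_le_of_index_le_two _ ?_
    set N := L.subgroupOf (T.top hd)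
    have htop : Subgroup.zpowers (QuotientGroup.mk' N ⟨d, T.mem_top_self hd⟩) = ⊤ := by
      rw [eq_top_iff, ← Subgroup.map_top_of_surjective _ (QuotientGroup.mk'_surjective N),
        ← T.closure_topD hd, MonoidHom.map_closure, Subgroup.zpowers_eq_closure]
      refine Subgroup.closure_mono ?_
      rintro _ ⟨x, hx, rfl⟩
      exact (QuotientGroup.eq.2 (show ((⟨d, T.mem_top_self hd⟩ : ↥(T.top hd))⁻¹ * x) ∈ N from
        (T.topD_part hd hx).2)).symm
    rw [Subgroup.index_eq_card, ← Subgroup.card_top, ← htop, Nat.card_zpowers]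
    exact orderOf_le_of_pow_eq_one two_pos
      (by rw [← map_pow, show (⟨d, T.mem_top_self hd⟩ : ↥(T.top hd)) ^ 2 = 1 from
        Subtype.ext (by simp [pow_two, mul_self T.set hd]), map_one])
  · have h : L.subgroupOf (T.top hd) = ⁅L.subgroupOf (T.top hd), L.subgroupOf (T.top hd)⁆ := by
      refine Subgroup.map_injective (T.top hd).subtype_injective ?_
      rw [Subgroup.map_commutator, Subgroup.map_subgroupOf_eq_of_le (T.le_top hd), T.perf]
    rw [h, commutator_def]
    exact Subgroup.commutator_mono _root_.le_top _root_.le_top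

/-- `L` as the derived group of `L⟨d⟩`. -/
noncomputable def topEquiv [Finite G] {d : G} (hd : d ∈ D) : ↥(commutator ↥(T.top hd)) ≃* ↥L :=
  (MulEquiv.subgroupCongr (T.top_commutator hd)).trans (Subgroup.subgroupOfEquivOfLe (T.le_top hd))

theorem top_simple [Finite G] {d : G} (hd : d ∈ D) : IsSimpleGroup ↥(commutator ↥(T.top hd)) := by
  have := T.simple
  have : Nontrivial ↥(commutator ↥(T.top hd)) := (T.topEquiv hd).toEquiv.nontrivial
  exact IsSimpleGroup.isSimpleGroup_of_surjective (T.topEquiv hd).symm.toMonoidHom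
    (T.topEquiv hd).symm.surjective

/-- The transport lemma inside `L⟨d⟩`. -/
theorem top_false_of_fixed [Finite G] {d : G} (hd : d ∈ D)
    (H : ∀ a ∈ commutator ↥(T.top hd), a * a = 1 → a ≠ 1 → ∃ u ∈ T.topD hd, Commute a u) : False :=
  T.false_of_fixed hd fun a ha haa hane => by
    obtain ⟨u, hu, hau⟩ := H ⟨a, T.le_top hd ha⟩ (by rw [T.top_commutator hd]; exact ha)
      (Subtype.ext haa) fun h => hane (congrArg Subtype.val h)
    exact ⟨u, T.topD_part hd hu, congrArg Subtype.val hau.eq⟩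

/-! ### the outer action -/

/-- The outer action on `L`. -/
noncomputable def outAct (_T : Tri D L) : G →* Cfsg.Out ↥L :=
  haveI := _T.normal
  (QuotientGroup.mk' (Cfsg.Inn ↥L)).comp MulAut.conjNormal

theorem outAct_ker : T.outAct.ker = L := by
  have := T.normal
  ext g
  rw [MonoidHom.mem_ker, outAct, MonoidHom.comp_apply, QuotientGroup.mk'_apply, QuotientGroup.eq_one_iff]
  refine ⟨fun ⟨l, hl⟩ => ?_, fun hg => ⟨⟨g, hg⟩, MulEquiv.ext fun x => Subtype.ext (by
    simp [MulAut.conjNormal_apply])⟩⟩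
  have hmem : (l : G)⁻¹ * g ∈ Subgroup.centralizer (L : Set G) := Subgroup.mem_centralizer_iff.2
    fun y hy => by
      have e : (l : G) * y * (l : G)⁻¹ = g * y * g⁻¹ := by
        simpa [MulAut.conjNormal_apply] using
          congrArg Subtype.val (DFunLike.congr_fun hl (⟨y, hy⟩ : ↥L))
      calc y * ((l : G)⁻¹ * g) = (l : G)⁻¹ * ((l : G) * y * (l : G)⁻¹) * g := by group
        _ = (l : G)⁻¹ * (g * y * g⁻¹) * g := by rw [e]
        _ = (l : G)⁻¹ * g * y := by group
  rw [T.cent, Subgroup.mem_bot, inv_mul_eq_one] at hmem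
  exact hmem ▸ l.2

theorem three_dvd_out [Finite G] : 3 ∣ Nat.card (Cfsg.Out ↥L) := by
  obtain ⟨d, hd, -⟩ := id T.cls.2.1
  obtain ⟨e, he, hde⟩ := T.out d hd
  have : Fact (Nat.Prime 3) := ⟨Nat.prime_three⟩
  have hnc : ¬ Commute d e := fun h => hde (T.cong d hd e he h)
  have ho : orderOf (T.outAct (d * e)) = 3 := orderOf_eq_prime
    (by rw [← map_pow, pow_three_of_not_commute T.set hd he hnc, map_one]) fun h => hde (by
      have h' : d * e ∈ L := by rw [← T.outAct_ker, MonoidHom.mem_ker]; exact h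
      rwa [inv_eq T.set hd])
  exact ho ▸ orderOf_dvd_natCard _

/-- The quotient by `L`, given an embedding in the symmetric group of degree four. -/
theorem quotient_perm_three [L.Normal] (f : G →* Equiv.Perm (Fin 4)) (hf : f.ker = L) :
    Nonempty (G ⧸ L ≃* Equiv.Perm (Fin 3)) := by
  obtain ⟨d, hd, -⟩ := id T.cls.2.1
  obtain ⟨e, he, hde⟩ := T.out d hd
  have hs := T.set
  have hmem : ∀ g, g ∈ L ↔ f g = 1 := fun g => by rw [← hf, MonoidHom.mem_ker]
  have hinv : ∀ x ∈ D, f x * f x = 1 ∧ f x ≠ 1 := fun x hx =>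
    ⟨by rw [← map_mul, mul_self hs hx, map_one], fun h => T.notMem x hx ((hmem x).2 h)⟩
  have hrel : ∀ x ∈ D, ∀ y ∈ D, f x = f y ∨ (f x * f y ≠ f y * f x ∧
      f x * f y * f x = f y * f x * f y) := by
    intro x hx y hy
    rcases commute_or_braid hs hx hy with h | h
    · left
      have := (hmem _).1 (T.cong x hx y hy h)
      rwa [map_mul, map_inv, inv_mul_eq_one] at this
    · by_cases e' : f x = f y
      · exact Or.inl e'
      · refine Or.inr ⟨fun hc => e' ?_, by simpa using congrArg f h⟩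
        have h' : f x * f y * f x = f y * f x * f y := by simpa using congrArg f h
        rw [hc, mul_assoc, (hinv x hx).1, mul_one, ← hc, mul_assoc, (hinv y hy).1, mul_one] at h'
        exact h'.symm
  set a := f d with ha
  set b := f e with hb
  have hab : a * b ≠ b * a ∧ a * b * a = b * a * b := (hrel d hd e he).resolve_left fun h => hde (by
    rw [hmem, map_mul, map_inv, inv_mul_eq_one]; exact h)
  set c := a * b * a with hc
  have hcD : c = f (d * e * d) := by rw [map_mul, map_mul]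
  have hded : d * e * d ∈ D := by simpa [inv_eq hs hd] using T.conjD d he
  have hall : ∀ x ∈ D, f x = a ∨ f x = b ∨ f x = c := fun x hx =>
    perm_four_triangle a b (hinv d hd).1 (hinv e he).1 hab.1 hab.2 (f x) (hinv x hx).1 (hinv x hx).2 (hrel d hd x hx)
      (hrel e he x hx) (by rw [← hc, hcD]; exact (hrel _ hded x hx).imp id And.left)
  have hne : a ≠ b ∧ a ≠ c ∧ b ≠ c := by
    refine ⟨fun h => hab.1 (by rw [h]), fun h => ?_, fun h => ?_⟩
    · refine hab.1 ?_
      have e1 : a * b = 1 := by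
        calc a * b = a * b * (a * a) := by rw [(hinv d hd).1, mul_one]
          _ = a * b * a * a := by simp only [mul_assoc]
          _ = 1 := by rw [← hc, ← h, (hinv d hd).1]
      rw [e1, eq_comm, ← inv_eq_of_mul_eq_one_right e1, inv_mul_cancel]
    · refine hab.1 ?_
      calc a * b = a * (a * b * a) := by rw [← hc, ← h]
        _ = b * a := by rw [← mul_assoc, ← mul_assoc, (hinv d hd).1, one_mul]
  let E : Set (Equiv.Perm (Fin 4)) := {a, b, c}
  have hE : ∀ (g : G) (p : Equiv.Perm (Fin 4)), p ∈ E → f g * p * (f g)⁻¹ ∈ E := by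
    intro g p hp
    obtain ⟨x, hx, rfl⟩ : ∃ x ∈ D, f x = p := by
      rcases hp with rfl | rfl | rfl
      exacts [⟨d, hd, rfl⟩, ⟨e, he, rfl⟩, ⟨_, hded, hcD.symm⟩]
    rw [← map_mul, ← map_inv, ← map_mul]
    exact hall _ (T.conjD g hx)
  let act : G →* Equiv.Perm E :=
    { toFun := fun g => ⟨fun p => ⟨f g * p * (f g)⁻¹, hE g p p.2⟩,
        fun p => ⟨f g⁻¹ * p * (f g⁻¹)⁻¹, hE g⁻¹ p p.2⟩,
        fun p => Subtype.ext (by simp [mul_assoc]), fun p => Subtype.ext (by simp [mul_assoc])⟩
      map_one' := Equiv.ext fun p => Subtype.ext (by simp)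
      map_mul' := fun u v => Equiv.ext fun p => Subtype.ext (by simp [mul_assoc]) }
  have hker : act.ker = L := by
    ext g
    rw [MonoidHom.mem_ker, hmem]
    refine ⟨fun h => ?_, fun h => Equiv.ext fun p => Subtype.ext (by simp [act, h])⟩
    have hp : ∀ p ∈ E, p * f g = f g * p := fun p hp => by
      have := congrArg Subtype.val (Equiv.ext_iff.1 h ⟨p, hp⟩)
      exact (mul_inv_eq_iff_eq_mul.1 this).symm
    exact perm_four_center a b (hinv d hd).1 (hinv e he).1 hab.1 hab.2 (f g) (hp a (by simp [E])) (hp b (by simp [E]))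
  have hcard : Nat.card E = 3 := by
    rw [Nat.card_coe_set_eq]
    exact Set.ncard_eq_three.2 ⟨a, b, c, hne.1, hne.2.1, hne.2.2, rfl⟩
  let eE : E ≃ Fin 3 := Finite.equivFinOfCardEq hcard
  set f3 : G →* Equiv.Perm (Fin 3) := eE.permCongrHom.toMonoidHom.comp act with hf3
  have hker3 : f3.ker = L := by
    rw [← hker]; ext g
    simp [hf3]
  have hpair : ∀ p q : Equiv.Perm (Fin 3), p * p = 1 → q * q = 1 → p * q ≠ q * p →
      ∀ r, r = 1 ∨ r = p ∨ r = q ∨ r = p * q ∨ r = q * p ∨ r = p * q * p := by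
    decide +kernel
  have hnc : f3 d * f3 e ≠ f3 e * f3 d := fun h => hab.1 <| by
    rw [← map_mul, ← map_mul, MonoidHom.eq_iff, hker3, hmem, map_mul, map_inv, map_mul, map_mul,
      inv_mul_eq_one] at h
    exact h.symm
  have hsurj : Function.Surjective f3 := by
    intro r
    rcases hpair (f3 d) (f3 e) (by rw [← map_mul, mul_self hs hd, map_one])
      (by rw [← map_mul, mul_self hs he, map_one]) hnc r with rfl | rfl | rfl | rfl | rfl | rfl
    exacts [⟨1, map_one _⟩, ⟨d, rfl⟩, ⟨e, rfl⟩, ⟨d * e, map_mul ..⟩, ⟨e * d, map_mul ..⟩,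
      ⟨d * e * d, by rw [map_mul, map_mul]⟩]
  exact ⟨(QuotientGroup.quotientMulEquivOfEq hker3.symm).trans
    (QuotientGroup.quotientKerEquivOfSurjective f3 hsurj)⟩

end Tri

end Cfsg.Agent.Disconn
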