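/-
Involutions centralising a member.

Main results: `commute_image_or_fixed`, `pre_fixed`, `perm_fixed`.
-/
import Cfsg.Agent.Lib.ThreeTrans.Disconnected.Basic
import Cfsg.Agent.Lib.ThreeTrans.Polar.Five

set_option autoImplicit false

namespace Cfsg.Agent.Disconn

open Cfsg Cfsg.Agent.ThreeTrans

variable {G : Type*} [Group G] {D : Set G}

/-- An involution centralising no member maps every member to a commuting one. -/
theorem commute_image_or_fixed (hD : IsThreeTranspositionGroup D) {x a : G} (hx : x * x = 1) (ha : a ∈ D)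
    (hall : ∀ d ∈ D, ¬ Commute x d) :
    x * a * x⁻¹ ∈ D ∧ x * a * x⁻¹ ≠ a ∧ Commute a (x * a * x⁻¹) ∧ x * (x * a * x⁻¹) * x⁻¹ = a := by
  have hxx : ∀ u : G, x * (x * u * x⁻¹) * x⁻¹ = u := fun u => by
    rw [show x * (x * u * x⁻¹) * x⁻¹ = x * x * u * (x * x)⁻¹ by group, hx, inv_one, one_mul, mul_one]
  set b := x * a * x⁻¹ with hb
  have hbD : b ∈ D := hD.2.1 x a ha
  refine ⟨hbD, fun e => hall a ha (mul_inv_eq_iff_eq_mul.1 e), ?_, hxx a⟩
  by_contra hn
  refine hall (a * b * a⁻¹) (hD.2.1 a b hbD) (mul_inv_eq_iff_eq_mul.1 ?_)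
  rw [show x * (a * b * a⁻¹) * x⁻¹ = x * a * x⁻¹ * (x * b * x⁻¹) * (x * a * x⁻¹)⁻¹ by group, hxx a,
    ← hb, inv_eq hD.1 hbD, inv_eq hD.1 ha, braid hD.1 ha hbD hn]

/-- With a non-central local 2-core every involution centralises a member. -/
theorem pre_fixed [Finite G] (h : ThreeTrans.Polar.Pre D) {x : G} (hx : x * x = 1) :
    ∃ u ∈ D, Commute x u := by
  by_contra hcon
  have hall : ∀ d ∈ D, ¬ Commute x d := fun d hd hc => hcon ⟨d, hd, hc⟩
  obtain ⟨a, ha, -⟩ := h.two
  obtain ⟨hb, hne, hab, hback⟩ := commute_image_or_fixed (group_of_class h.cls) hx ha hall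
  set b := x * a * x⁻¹ with hbdef
  have hinv : (fun e => x * e * x⁻¹) '' ThreeTrans.Polar.pts D a b = ThreeTrans.Polar.pts D a b := by
    rw [← ThreeTrans.Polar.pts_conj h.conj, ← hbdef, hback]
    exact h.pts_eq ha hb hne.symm hab (ThreeTrans.Polar.right_mem_pts hb hab)
      (ThreeTrans.Polar.left_mem_pts ha hab) hne
  have hev : Even (ThreeTrans.Polar.pts D a b).ncard := ThreeTrans.Polar.even_ncard (Set.toFinite _)
    (fun e => x * e * x⁻¹) (fun e he => hinv.le ⟨e, he, rfl⟩)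
    (fun e he e' => hall e he.1.1 (mul_inv_eq_iff_eq_mul.1 e'))
    (fun e _ => by
      show x * (x * e * x⁻¹) * x⁻¹ = e
      rw [show x * (x * e * x⁻¹) * x⁻¹ = x * x * e * (x * x)⁻¹ by group, hx, inv_one, one_mul, mul_one])
  rcases h.pts_size ha hb hne.symm hab with e | e <;> rw [e] at hev <;> exact absurd hev (by decide)

/-- In a symmetric group every involution centralises a transposition. -/
theorem perm_fixed {n : ℕ} {e : G ≃* Equiv.Perm (Fin n)}
    (he : e '' D = {σ : Equiv.Perm (Fin n) | σ.IsSwap}) {x : G} (hx : x * x = 1) (hx1 : x ≠ 1) :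
    ∃ u ∈ D, Commute x u := by
  obtain ⟨i, hi⟩ : ∃ i, e x i ≠ i := by
    by_contra h
    push Not at h
    exact hx1 (e.injective (by rw [map_one]; exact Equiv.ext h))
  have hmem : Equiv.swap i (e x i) ∈ e '' D := by rw [he]; exact ⟨i, e x i, hi.symm, rfl⟩
  obtain ⟨u, hu, hue⟩ := hmem
  refine ⟨u, hu, e.injective ?_⟩
  rw [map_mul, map_mul, hue]
  have hsq : e x (e x i) = i := by
    rw [← Equiv.Perm.mul_apply, ← map_mul, hx, map_one, Equiv.Perm.one_apply]
  refine mul_inv_eq_iff_eq_mul.1 ?_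
  rw [← Equiv.swap_apply_apply, hsq, Equiv.swap_comm]

end Cfsg.Agent.Disconn
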