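/-
Involutions of orthogonal groups over the field with two elements fixing no non-singular vector.

Main results: `half_of_no_fixed`, `orth_fixed_or_half`, `plus_fixed`, `minus_fixed`.
-/
import Cfsg.Agent.Lib.ThreeTrans.Disconnected.Fixed
import Cfsg.Agent.Lib.Orth.Models
import Cfsg.Agent.Lib.OrthPrime.Type
import Cfsg.Agent.Lib.Forms.Symplectic

set_option autoImplicit false

namespace Cfsg.Agent.Disconn

open Cfsg Cfsg.Agent.Orth Module
open QuadraticMap (polar)

variable {ι : Type} [Fintype ι] [DecidableEq ι] {Q : QuadraticForm (ZMod 2) (ι → ZMod 2)}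

theorem zmod_two_add_self (x : ι → ZMod 2) : x + x = 0 := funext fun _ => CharTwo.add_self_eq_zero _

theorem pl_self_two (x : ι → ZMod 2) : polar ⇑Q x x = 0 := by
  rw [pl_self, show (2 : ZMod 2) = 0 from rfl, zero_mul]

/-- An involution without non-singular fixed vector: its fixed vectors form a singular half of even dimension. -/
theorem half_of_no_fixed (hQ : Q.polarBilin.Nondegenerate) {g : IsoGrp Q} (hg : g * g = 1)
    (H : ∀ v, Q v ≠ 0 → ap g v ≠ v) :
    ∃ W : Submodule (ZMod 2) (ι → ZMod 2), (∀ w ∈ W, Q w = 0) ∧ 2 * finrank (ZMod 2) W = Fintype.card ι ∧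
      Even (finrank (ZMod 2) W) := by
  set N : (ι → ZMod 2) →ₗ[ZMod 2] (ι → ZMod 2) := ap g + LinearMap.id with hN
  have hNap : ∀ x, N x = ap g x + x := fun x => rfl
  set W := LinearMap.ker N with hW
  have hmem : ∀ x, x ∈ W ↔ ap g x = x := fun x => by
    rw [hW, LinearMap.mem_ker, hNap, add_eq_zero_iff_eq_neg,
      neg_eq_of_add_eq_zero_left (zmod_two_add_self x)]
  have hsing : ∀ w ∈ W, Q w = 0 := fun w hw => by_contra fun h => H w h ((hmem w).1 hw)
  have hgx : ∀ x, ap g (ap g x) = x := fun x => by rw [← ap_mul, hg, ap_one]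
  have hrange : LinearMap.range N ≤ W := by
    rintro _ ⟨x, rfl⟩
    rw [hmem, hNap, map_add, hgx, add_comm]
  have hiso : ∀ x ∈ W, ∀ y ∈ W, polar ⇑Q x y = 0 := fun x hx y hy => by
    have := Q_add Q x y
    rw [hsing x hx, hsing y hy, hsing _ (W.add_mem hx hy), zero_add, zero_add] at this
    exact this.symm
  have h1 := two_mul_finrank_le_of_isotropic hQ W hiso
  have h2 := LinearMap.finrank_range_add_finrank_ker N
  have h3 := Submodule.finrank_mono hrange
  rw [finrank_space, ← hW] at h2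
  refine ⟨W, hsing, by omega, ?_⟩
  set B : LinearMap.BilinForm (ZMod 2) (ι → ZMod 2) := Q.polarBilin.compl₂ N with hB
  have hBap : ∀ x y, B x y = polar ⇑Q x (N y) := fun x y => rfl
  have halt : B.IsAlt := fun x => by
    rw [hBap, hNap, pl_add_right, pl_self_two, add_zero]
    have h0 := hsing _ (hrange ⟨x, rfl⟩)
    rw [hNap, Q_add, Q_ap, CharTwo.add_self_eq_zero, zero_add] at h0
    rwa [pl_comm]
  have hker : LinearMap.ker B = W := by
    ext x
    rw [LinearMap.mem_ker]
    refine ⟨fun h => ?_, fun h => LinearMap.ext fun y => ?_⟩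
    · have : N x = 0 := hQ.1 (N x) fun y => by
        have hxy : B x y = 0 := by rw [h]; rfl
        rw [show Q.polarBilin (N x) y = polar ⇑Q (N x) y from rfl, hNap, pl_add_left]
        rw [hBap, hNap, pl_add_right] at hxy
        calc polar ⇑Q (ap g x) y + polar ⇑Q x y
            = polar ⇑Q (ap g (ap g x)) (ap g y) + polar ⇑Q x y := by rw [polar_ap]
          _ = 0 := by rw [hgx]; exact hxy
      exact this
    · show polar ⇑Q x (N y) = 0
      rw [hNap, pl_add_right]
      calc polar ⇑Q x (ap g y) + polar ⇑Q x y = polar ⇑Q (ap g x) (ap g y) + polar ⇑Q x y := by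
            rw [(hmem x).1 h]
        _ = 0 := by rw [polar_ap, CharTwo.add_self_eq_zero]
  have he := Forms.even_finrank_sub_ker B halt
  rw [hker, finrank_space] at he
  rwa [show Fintype.card ι - finrank (ZMod 2) W = finrank (ZMod 2) W by omega] at he

/-- A transvection is a reflection of rank one. -/
theorem rank_refl_sub_one (hQ : Q.polarBilin.Nondegenerate) {v : ι → ZMod 2} (hv : Q v ≠ 0) :
    (((refl Q v : GL ι (ZMod 2)) : Matrix ι ι (ZMod 2)) - 1).rank = 1 := by
  have hv0 : v ≠ 0 := fun h => hv (by rw [h, QuadraticMap.map_zero])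
  set A := ((refl Q v : GL ι (ZMod 2)) : Matrix ι ι (ZMod 2)) - 1
  have hA : ∀ x, A.mulVecLin x = -(((Q v)⁻¹ * polar ⇑Q v x) • v) := fun x => by
    rw [Matrix.mulVecLin_apply, Matrix.sub_mulVec, Matrix.one_mulVec, refl_mat, reflectionMatrix_mulVec,
      sub_sub_cancel_left]
  have hrange : LinearMap.range A.mulVecLin = Submodule.span (ZMod 2) {v} := by
    refine le_antisymm ?_ (Submodule.span_le.2 (Set.singleton_subset_iff.2 ?_))
    · rintro _ ⟨x, rfl⟩
      rw [hA, Submodule.mem_span_singleton]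
      exact ⟨-((Q v)⁻¹ * polar ⇑Q v x), by rw [neg_smul]⟩
    · obtain ⟨x, hx⟩ : ∃ x, polar ⇑Q v x ≠ 0 := by
        by_contra h
        push Not at h
        exact hv0 (hQ.1 v h)
      refine ⟨x, ?_⟩
      rw [hA, show (Q v)⁻¹ * polar ⇑Q v x = 1 from
        (show ∀ a : ZMod 2, a ≠ 0 → a = 1 by decide) _ (mul_ne_zero (inv_ne_zero hv) hx), one_smul,
        neg_eq_of_add_eq_zero_left (zmod_two_add_self v)]
  rw [Matrix.rank, hrange, finrank_span_singleton hv0]

variable {G : Type*} [Group G] {D : Set G}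

theorem orth_fixed_or_half (hQ : Q.polarBilin.Nondegenerate) (e : G ≃* ↥(isometryGroup (ZMod 2) ⇑Q))
    (he : e '' D = {g : ↥(isometryGroup (ZMod 2) ⇑Q) |
      (((g : GL ι (ZMod 2)) : Matrix ι ι (ZMod 2)) - 1).rank = 1}) {x : G} (hx : x * x = 1) :
    (∃ u ∈ D, Commute x u) ∨ ∃ W : Submodule (ZMod 2) (ι → ZMod 2), (∀ w ∈ W, Q w = 0) ∧
      2 * finrank (ZMod 2) W = Fintype.card ι ∧ Even (finrank (ZMod 2) W) := by
  by_cases H : ∀ v, Q v ≠ 0 → ap (e x) v ≠ v
  · exact Or.inr (half_of_no_fixed hQ (by rw [← map_mul, hx, map_one]) H)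
  · push Not at H
    obtain ⟨v, hv, hfix⟩ := H
    obtain ⟨u, hu, hue⟩ := he.ge (show refl Q v ∈ _ from rank_refl_sub_one hQ hv)
    refine Or.inl ⟨u, hu, e.injective ?_⟩
    rw [map_mul, map_mul, hue, mul_refl, hfix]

/-- In plus type of odd Witt index every involution centralises a transvection. -/
theorem plus_fixed {m : ℕ} (hm : Odd m) (e : G ≃* ↥(isometryGroup (ZMod 2) (quadFormPlus m (ZMod 2))))
    (he : e '' D = {g : ↥(isometryGroup (ZMod 2) (quadFormPlus m (ZMod 2))) |
      (((g : GL (Fin m ⊕ Fin m) (ZMod 2)) : Matrix (Fin m ⊕ Fin m) (Fin m ⊕ Fin m) (ZMod 2)) - 1).rank = 1})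
    {x : G} (hx : x * x = 1) : ∃ u ∈ D, Commute x u := by
  refine (orth_fixed_or_half (Q := quadPlus m (ZMod 2)) (quadPlus_nondeg m) e he hx).resolve_right ?_
  rintro ⟨W, -, hdim, hev⟩
  simp only [Fintype.card_sum, Fintype.card_fin] at hdim
  rw [show finrank (ZMod 2) W = m by omega] at hev
  exact Nat.not_even_iff_odd.2 hm hev

theorem aniso_one_one : Orth.Aniso (1 : ZMod 2) 1 := by unfold Orth.Aniso; decide

/-- In minus type every involution centralises a transvection. -/
theorem minus_fixed {m : ℕ} (e : G ≃* ↥(isometryGroup (ZMod 2) (quadFormMinus m (ZMod 2) 1 1)))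
    (he : e '' D = {g : ↥(isometryGroup (ZMod 2) (quadFormMinus m (ZMod 2) 1 1)) |
      (((g : GL ((Fin m ⊕ Fin m) ⊕ Fin 2) (ZMod 2)) :
        Matrix ((Fin m ⊕ Fin m) ⊕ Fin 2) ((Fin m ⊕ Fin m) ⊕ Fin 2) (ZMod 2)) - 1).rank = 1})
    {x : G} (hx : x * x = 1) : ∃ u ∈ D, Commute x u := by
  refine (orth_fixed_or_half (Q := quadMinus m (ZMod 2) 1 1) (quadMinus_nondeg m aniso_one_one)
    e he hx).resolve_right ?_
  rintro ⟨W, hW, hdim, -⟩
  simp only [Fintype.card_sum, Fintype.card_fin] at hdim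
  exact OrthPrime.no_singular_half_minus aniso_one_one m W (fun w hw => by rw [Forms.qfMinus_apply]; exact hW w hw) (by omega)

end Cfsg.Agent.Disconn
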