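/-
Anti-commuting square roots of minus one.

Main results: `two_pow_le_of_anticomm`, `four_dvd_of_anticomm`.
-/
import Mathlib

set_option autoImplicit false

namespace Cfsg.Agent.Disconn

variable {F V : Type*} [Field F] [AddCommGroup V] [Module F V]

/-- The ordered product of a subfamily. -/
def mon : ∀ {k : ℕ}, (Fin k → Module.End F V) → (Fin k → Bool) → Module.End F V
  | 0, _, _ => 1
  | _ + 1, K, f => (if f 0 then K 0 else 1) * mon (fun j => K j.succ) (fun j => f j.succ)

theorem mon_mul (A : Module.End F V) : ∀ {k : ℕ} (K : Fin k → Module.End F V) (s : Fin k → F)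
    (_ : ∀ j, A * K j = s j • (K j * A)) (f : Fin k → Bool),
    A * mon K f = (∏ j, if f j then s j else 1) • (mon K f * A)
  | 0, K, s, h, f => by simp [mon]
  | k + 1, K, s, h, f => by
    have ih := mon_mul A (fun j => K j.succ) (fun j => s j.succ) (fun j => h j.succ) (fun j => f j.succ)
    rw [mon, Fin.prod_univ_succ]
    cases f 0 with
    | false => simpa using ih
    | true =>
      simp only [if_true]
      rw [← mul_assoc, h 0, smul_mul_assoc, mul_assoc (K 0), ih, mul_smul_comm, smul_smul, ← mul_assoc]

theorem mon_isUnit : ∀ {k : ℕ} (K : Fin k → Module.End F V) (_ : ∀ j, IsUnit (K j)) (f : Fin k → Bool),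
    IsUnit (mon K f)
  | 0, _, _, _ => by simp [mon]
  | k + 1, K, h, f => by
    rw [mon]
    refine IsUnit.mul ?_ (mon_isUnit _ (fun j => h j.succ) _)
    cases f 0 <;> simp [h 0]

theorem isUnit_of_sq {A : Module.End F V} (h : A * A = -1) : IsUnit A :=
  ⟨⟨A, -A, by rw [mul_neg, h, neg_neg], by rw [neg_mul, h, neg_neg]⟩, rfl⟩

/-- Distinct products of an even number of anti-commuting roots of minus one are independent. -/
theorem linearIndependent_mon (h2 : (2 : F) ≠ 0) [Nontrivial V] {k : ℕ} (hk : Even k)
    (K : Fin k → Module.End F V) (hsq : ∀ j, K j * K j = -1)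
    (hac : ∀ i j, i ≠ j → K i * K j = -(K j * K i)) : LinearIndependent F (mon K) := by
  classical
  set ε : Fin k → (Fin k → Bool) → F := fun i f => ∏ j, if f j then (if j = i then 1 else -1) else 1
  have hsw : ∀ i f, K i * mon K f = ε i f • (mon K f * K i) := fun i f =>
    mon_mul (K i) K (fun j => if j = i then 1 else -1) (fun j => by
      by_cases h : j = i
      · simp [h]
      · simp [h, hac i j (Ne.symm h)]) f
  -- the signs separate the subsets
  have hsep : ∀ f g, (∀ i, ε i f = ε i g) → f = g := by
    intro f g hfg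
    set S : Finset (Fin k) := {j | f j = true}
    set T : Finset (Fin k) := {j | g j = true}
    have hε : ∀ (h : Fin k → Bool) i, ε i h =
        (-1) ^ ((({j | h j = true} : Finset (Fin k)).erase i).card) := by
      intro h i
      show (∏ j, if h j then (if j = i then (1 : F) else -1) else 1) = _
      rw [← Finset.prod_const, ← Finset.filter_ne', Finset.filter_filter,
        Finset.prod_filter (fun j => h j = true ∧ j ≠ i) (fun _ => (-1 : F))]
      refine Finset.prod_congr rfl fun j _ => ?_
      split_ifs <;> simp_all
    have hne : (-1 : F) ≠ 1 := fun h => h2 (by linear_combination -h)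
    have hpar : ∀ i, Even (S.erase i).card ↔ Even (T.erase i).card := by
      intro i
      rw [← neg_one_pow_eq_one_iff_even hne, ← neg_one_pow_eq_one_iff_even hne, ← hε f i, ← hε g i, hfg]
    have hcard : ∀ (U : Finset (Fin k)) i, (U.erase i).card + (if i ∈ U then 1 else 0) = U.card := by
      intro U i
      by_cases h : i ∈ U
      · rw [if_pos h, Finset.card_erase_add_one h]
      · rw [if_neg h, add_zero, Finset.erase_eq_of_notMem h]
    have key : ∀ (A B : ℕ) (p q : Prop) [Decidable p] [Decidable q], (Even A ↔ Even B) →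
        ((Even (A + if p then 1 else 0) ↔ Even (B + if q then 1 else 0)) ↔ (p ↔ q)) := by
      intro A B p q _ _ hAB
      by_cases hp : p <;> by_cases hq : q <;> simp [hp, hq, Nat.even_add_one, hAB, ← Nat.not_even_iff_odd]
    by_cases hST : Even S.card ↔ Even T.card
    · funext i
      have : (i ∈ S ↔ i ∈ T) := by
        rw [← key _ _ (i ∈ S) (i ∈ T) (hpar i), hcard, hcard]
        exact hST
      cases hf : f i <;> cases hg : g i <;> simp [S, T, hf, hg] at this ⊢
    · exfalso
      have hcompl : T = Sᶜ := by
        ext i
        have : ¬ (i ∈ S ↔ i ∈ T) := by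
          rw [← key _ _ (i ∈ S) (i ∈ T) (hpar i), hcard, hcard]
          exact hST
        rw [Finset.mem_compl]
        tauto
      refine hST ?_
      rw [hcompl]
      have := Finset.card_add_card_compl S
      rw [Fintype.card_fin] at this
      rw [← this, Nat.even_add] at hk
      exact hk
  rw [linearIndependent_iff']
  intro s
  induction s using Finset.induction with
  | empty => simp
  | @insert f s hfs ih =>
    intro c hc
    have hall : ∀ g ∈ s, c g = 0 := by
      intro g hg
      obtain ⟨i, hi⟩ : ∃ i, ε i g ≠ ε i f := by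
        by_contra h
        push Not at h
        exact hfs (hsep g f h ▸ hg)
      have hzero : (∑ p ∈ insert f s, (c p * (ε i p - ε i f)) • mon K p) * K i = 0 := by
        have e1 : K i * ∑ p ∈ insert f s, c p • mon K p = 0 := by rw [hc, mul_zero]
        have e2 : (∑ p ∈ insert f s, c p • mon K p) * K i = 0 := by rw [hc, zero_mul]
        rw [Finset.mul_sum] at e1
        rw [Finset.sum_mul] at e2 ⊢
        calc _ = ∑ p ∈ insert f s, (K i * (c p • mon K p) - ε i f • (c p • mon K p * K i)) := by
              refine Finset.sum_congr rfl fun p _ => ?_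
              rw [mul_smul_comm, hsw, smul_mul_assoc, smul_mul_assoc, smul_smul, smul_smul, ← sub_smul]
              congr 1; ring
          _ = 0 := by rw [Finset.sum_sub_distrib, e1, ← Finset.smul_sum, e2, smul_zero, sub_zero]
      rw [(isUnit_of_sq (hsq i)).mul_left_eq_zero, Finset.sum_insert hfs, sub_self, mul_zero, zero_smul,
        zero_add] at hzero
      exact (mul_eq_zero.1 (ih _ hzero g hg)).resolve_right (sub_ne_zero.2 hi)
    intro g hg
    rcases Finset.mem_insert.1 hg with rfl | hg
    · rw [Finset.sum_insert hfs, Finset.sum_eq_zero fun p hp => by rw [hall p hp, zero_smul],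
        add_zero] at hc
      exact (smul_eq_zero.1 hc).resolve_right (mon_isUnit K (fun j => isUnit_of_sq (hsq j)) g).ne_zero
    · exact hall g hg

theorem two_pow_le_of_anticomm (h2 : (2 : F) ≠ 0) [FiniteDimensional F V] [Nontrivial V] {k : ℕ}
    (hk : Even k) (K : Fin k → Module.End F V) (hsq : ∀ j, K j * K j = -1)
    (hac : ∀ i j, i ≠ j → K i * K j = -(K j * K i)) :
    2 ^ k ≤ Module.finrank F V * Module.finrank F V := by
  have := (linearIndependent_mon h2 hk K hsq hac).fintype_card_le_finrank
  rwa [Fintype.card_fun, Fintype.card_bool, Fintype.card_fin, Module.finrank_linearMap] at this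

/-- A space with a square root of minus one, over a field without one, has even dimension. -/
theorem even_finrank_of_sq (hF : ∀ a : F, a * a ≠ -1) [FiniteDimensional F V] {A : Module.End F V}
    (h : A * A = -1) : Even (Module.finrank F V) := by
  by_contra hodd
  rw [Nat.not_even_iff_odd] at hodd
  refine hF (LinearMap.det A) ?_
  rw [← map_mul, h, ← neg_one_smul F (1 : Module.End F V), LinearMap.det_smul, map_one, mul_one,
    hodd.neg_one_pow]

/-- Four anti-commuting square roots of minus one force a dimension divisible by four. -/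
theorem four_dvd_of_anticomm (h2 : (2 : F) ≠ 0) (hF : ∀ a : F, a * a ≠ -1) [FiniteDimensional F V]
    (K : Fin 4 → Module.End F V) (hsq : ∀ j, K j * K j = -1)
    (hac : ∀ i j, i ≠ j → K i * K j = -(K j * K i)) : 4 ∣ Module.finrank F V := by
  set P := K 0 * K 1 * K 2 with hP
  have happ : ∀ i x, K i (K i x) = -x := fun i x => by
    have := DFunLike.congr_fun (hsq i) x; simpa using this
  have hsw : ∀ i j, i ≠ j → ∀ x, K i (K j x) = -(K j (K i x)) := fun i j h x => by
    have := DFunLike.congr_fun (hac i j h) x; simpa using this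
  have hPx : ∀ x, P x = K 0 (K 1 (K 2 x)) := fun x => rfl
  have hP0 : ∀ x, P (K 0 x) = K 0 (P x) := fun x => by
    rw [hPx, hPx, hsw 2 0 (by decide), map_neg, hsw 1 0 (by decide), map_neg, map_neg, neg_neg]
  have hP3 : ∀ x, P (K 3 x) = -(K 3 (P x)) := fun x => by
    rw [hPx, hPx, hsw 2 3 (by decide), map_neg, hsw 1 3 (by decide), map_neg, map_neg, neg_neg,
      hsw 0 3 (by decide)]
  have hPP : ∀ x, P (P x) = x := fun x => by
    rw [hPx x, hP0, hPx, happ, hsw 2 1 (by decide), map_neg, happ, happ, neg_neg, neg_neg]
  set U := LinearMap.ker (P - 1) with hU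
  set W := LinearMap.ker (P + 1) with hW
  have mU : ∀ x, x ∈ U ↔ P x = x := fun x => by
    rw [hU, LinearMap.mem_ker, LinearMap.sub_apply, sub_eq_zero]; rfl
  have mW : ∀ x, x ∈ W ↔ P x = -x := fun x => by
    rw [hW, LinearMap.mem_ker, LinearMap.add_apply, add_eq_zero_iff_eq_neg]; rfl
  have hcompl : IsCompl U W := by
    constructor
    · rw [Submodule.disjoint_def]
      intro x hx hx'
      have h0 : (2 : F) • x = 0 := by
        rw [two_smul]
        exact add_eq_zero_iff_eq_neg.2 (((mU x).1 hx).symm.trans ((mW x).1 hx'))
      exact (smul_eq_zero.1 h0).resolve_left h2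
    · rw [codisjoint_iff, eq_top_iff]
      intro x _
      refine Submodule.mem_sup.2 ⟨(2 : F)⁻¹ • (x + P x), ?_, (2 : F)⁻¹ • (x - P x), ?_, ?_⟩
      · rw [mU, map_smul, map_add, hPP, add_comm]
      · rw [mW, map_smul, map_sub, hPP, ← smul_neg, neg_sub]
      · rw [← smul_add, add_add_sub_cancel, ← two_smul F x, smul_smul, inv_mul_cancel₀ h2, one_smul]
  have hinj : Function.Injective (K 3) := fun x y e => by
    have := congrArg (K 3) e; rwa [happ, happ, neg_inj] at this
  have hswap : Module.finrank F U = Module.finrank F W := by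
    refine le_antisymm ?_ ?_
    · exact LinearMap.finrank_le_finrank_of_injective
        (f := (K 3).restrict (p := U) (q := W) fun x hx => by rw [mW, hP3, (mU x).1 hx])
        fun x y e => Subtype.ext (hinj (congrArg Subtype.val e))
    · exact LinearMap.finrank_le_finrank_of_injective
        (f := (K 3).restrict (p := W) (q := U) fun x hx => by rw [mU, hP3, (mW x).1 hx, map_neg, neg_neg])
        fun x y e => Subtype.ext (hinj (congrArg Subtype.val e))
  have hev : Even (Module.finrank F U) := even_finrank_of_sq hF
    (A := (K 0).restrict (p := U) (q := U) fun x hx => by rw [mU, hP0, (mU x).1 hx])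
    (LinearMap.ext fun x => Subtype.ext (by simpa using happ 0 x))
  have hsum := Submodule.finrank_add_eq_of_isCompl hcompl
  obtain ⟨r, hr⟩ := hev
  exact ⟨r, by omega⟩

end Cfsg.Agent.Disconn
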