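/-
Reflection groups over the field with three elements admitting a shift of their commuting products.

Main definitions: `Shift`.
Main results: `lift_of_no_fixed`, `exists_frame`, `refl_shift`.
-/
import Cfsg.Agent.Lib.ThreeTrans.Disconnected.Clifford
import Cfsg.Agent.Lib.FischerPolar.SimpleGlue

set_option autoImplicit false

namespace Cfsg.Agent.Disconn

open Cfsg Cfsg.Agent.Orth Cfsg.Agent.ThreeTrans Module
open QuadraticMap (polar)

/-- A homomorphism on the derived group sending every product of two commuting members to an element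
centralising no member. -/
def Shift {G : Type*} [Group G] (D : Set G) : Prop :=
  ∃ φ : ↥(commutator G) →* G, ∀ x ∈ D, ∀ x' ∈ D, x ≠ x' → Commute x x' →
    ∃ h : x * x' ∈ commutator G, φ ⟨x * x', h⟩ ≠ 1 ∧ ∀ u ∈ D, ¬ Commute (φ ⟨x * x', h⟩) u

variable {ι : Type} [Fintype ι] [DecidableEq ι] {Q : QuadraticForm (ZMod 3) (ι → ZMod 3)} {c : ZMod 3}

theorem zmod_three_no_sqrt : ∀ a : ZMod 3, a * a ≠ -1 := by decide +kernel

theorem zmod_three_unit : ∀ t : ZMod 3, t ≠ 0 → t = 1 ∨ t = -1 := by decide +kernel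

theorem two_ne_zero_three : (2 : ZMod 3) ≠ 0 := by decide

theorem scalar_pm (hQ : Q.polarBilin.Nondegenerate) (hn : 5 ≤ Fintype.card ι) (hc : c ≠ 0)
    {z : ↥(reflectionSubgroup (⇑Q) c)} (hz : z ∈ Subgroup.center ↥(reflectionSubgroup (⇑Q) c)) :
    (∀ x, ap (z : IsoGrp Q) x = x) ∨ ∀ x, ap (z : IsoGrp Q) x = -x := by
  obtain ⟨a, ha⟩ := FischerPolar.central_refl_scalar hQ hn hc (z := (z : IsoGrp Q)) fun g hg =>
    congrArg Subtype.val (Subgroup.mem_center_iff.1 hz ⟨g, hg⟩)
  obtain ⟨u, hu⟩ := exists_Q_eq hQ (by omega) c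
  have h0 : a ≠ 0 := fun h => hc (by
    have := Q_ap (z : IsoGrp Q) u
    rw [ha, h, zero_smul, map_zero, hu] at this
    exact this.symm)
  rcases zmod_three_unit a h0 with rfl | rfl
  · exact Or.inl fun x => by rw [ha, one_smul]
  · exact Or.inr fun x => by rw [ha, neg_one_smul]

/-- The reflection of a vector of norm `c`, in the quotient. -/
noncomputable def reflQ (v : ι → ZMod 3) (hv : Q v = c) :
    ↥(reflectionSubgroup (⇑Q) c) ⧸ Subgroup.center ↥(reflectionSubgroup (⇑Q) c) :=
  QuotientGroup.mk ⟨refl Q v, refl_mem_reflSub hv⟩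

variable {G : Type*} [Group G] {D : Set G}
  {e : G ≃* ↥(reflectionSubgroup (⇑Q) c) ⧸ Subgroup.center ↥(reflectionSubgroup (⇑Q) c)}

theorem reflQ_mem (he : e '' D = (QuotientGroup.mk : ↥(reflectionSubgroup (⇑Q) c) → _) '' reflSet Q c)
    (v : ι → ZMod 3) (hv : Q v = c) : e.symm (reflQ v hv) ∈ D := by
  obtain ⟨u, hu, hue⟩ := he.ge (Set.mem_image_of_mem QuotientGroup.mk
    (show (⟨refl Q v, refl_mem_reflSub hv⟩ : ↥(reflectionSubgroup (⇑Q) c)) ∈ reflSet Q c from refl_mem_norm hv))
  rw [reflQ, ← hue, e.symm_apply_apply]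
  exact hu

/-- An involution centralising no member lifts to a square root of minus one. -/
theorem lift_of_no_fixed (hQ : Q.polarBilin.Nondegenerate) (hn : 5 ≤ Fintype.card ι) (hc : c ≠ 0)
    (he : e '' D = (QuotientGroup.mk : ↥(reflectionSubgroup (⇑Q) c) → _) '' reflSet Q c)
    {b : G} (hb : b * b = 1) (hno : ∀ u ∈ D, ¬ Commute b u) {g : ↥(reflectionSubgroup (⇑Q) c)}
    (hg : e b = QuotientGroup.mk g) : ∀ x, ap (g : IsoGrp Q) (ap (g : IsoGrp Q) x) = -x := by
  have hgg : g * g ∈ Subgroup.center ↥(reflectionSubgroup (⇑Q) c) := by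
    rw [← QuotientGroup.eq_one_iff, QuotientGroup.mk_mul, ← hg, ← map_mul, hb, map_one]
  refine (scalar_pm hQ hn hc hgg).elim (fun h1 => ?_) fun h1 x => by simpa using h1 x
  exfalso
  set A := ap (g : IsoGrp Q) with hA
  have hAA : ∀ x, A (A x) = x := fun x => by simpa [hA] using h1 x
  -- an eigenspace of dimension at least two holds a vector of norm `c`
  set U := LinearMap.ker (A - LinearMap.id) with hU
  set W := LinearMap.ker (A + LinearMap.id) with hW
  have mU : ∀ x, x ∈ U ↔ A x = x := fun x => by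
    rw [hU, LinearMap.mem_ker, LinearMap.sub_apply, sub_eq_zero]; rfl
  have mW : ∀ x, x ∈ W ↔ A x = -x := fun x => by
    rw [hW, LinearMap.mem_ker, LinearMap.add_apply, add_eq_zero_iff_eq_neg]; rfl
  have hsplit : ∀ x, ∃ p ∈ U, ∃ q ∈ W, x = p + q := by
    intro x
    refine ⟨-(x + A x), ?_, -(x - A x), ?_, ?_⟩
    · rw [mU, map_neg, map_add, hAA, add_comm]
    · rw [mW, map_neg, map_sub, hAA, ← neg_sub x (A x)]
    · funext i
      have key : ∀ s t : ZMod 3, s = -(s + t) + -(s - t) := by decide +kernel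
      simpa using key (x i) (A x i)
  have horth : ∀ p ∈ U, ∀ q ∈ W, polar ⇑Q p q = 0 := fun p hp q hq => by
    have := polar_ap (g : IsoGrp Q) p q
    rw [← hA, (mU p).1 hp, (mW q).1 hq, pl_neg_right] at this
    exact zmod_three_neg_eq _ this
  have hUW : 3 ≤ finrank (ZMod 3) U ∨ 3 ≤ finrank (ZMod 3) W := by
    have h : finrank (ZMod 3) ↥(U ⊔ W) = Fintype.card ι := by
      rw [eq_top_iff.2 (show ⊤ ≤ U ⊔ W from fun x _ => by
        obtain ⟨p, hp, q, hq, rfl⟩ := hsplit x
        exact Submodule.mem_sup.2 ⟨p, hp, q, hq, rfl⟩), finrank_top, finrank_space]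
    have := Submodule.finrank_add_le_finrank_add_finrank U W
    omega
  have hkill : ∀ v, Q v = c → A v = v ∨ A v = -v → False := by
    intro v hv hAv
    refine hno _ (reflQ_mem he v hv) (e.injective ?_)
    rw [map_mul, map_mul, e.apply_symm_apply, hg, reflQ, ← QuotientGroup.mk_mul, ← QuotientGroup.mk_mul]
    refine congrArg QuotientGroup.mk (Subtype.ext ?_)
    show (g : IsoGrp Q) * refl Q v = refl Q v * (g : IsoGrp Q)
    rw [mul_refl]
    rcases hAv with h | h
    · rw [← hA, h]
    · rw [← hA, h, ← neg_one_smul (ZMod 3) v, refl_smul Q (by decide : (-1 : ZMod 3) ≠ 0)]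
  rcases hUW with h | h
  · obtain ⟨v, hv, hQv⟩ := exists_Q_eq_in U (fun p hp hp0 => by
      obtain ⟨y, hy⟩ := exists_polar_ne hQ hp0
      obtain ⟨p', hp', q', hq', rfl⟩ := hsplit y
      exact ⟨p', hp', by rwa [pl_add_right, horth p hp q' hq', add_zero] at hy⟩) (by omega) c
    exact hkill v hQv (Or.inl ((mU v).1 hv))
  · obtain ⟨v, hv, hQv⟩ := exists_Q_eq_in W (fun q hq hq0 => by
      obtain ⟨y, hy⟩ := exists_polar_ne hQ hq0
      obtain ⟨p', hp', q', hq', rfl⟩ := hsplit y
      exact ⟨q', hq', by rwa [pl_add_right, pl_comm, horth p' hp' q hq, zero_add] at hy⟩) (by omega) c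
    exact hkill v hQv (Or.inr ((mW v).1 hv))

/-- An isometric square root of minus one gives an orthogonal frame of norm `c`. -/
theorem exists_frame (hQ : Q.polarBilin.Nondegenerate) (hc : c ≠ 0) {g : IsoGrp Q}
    (hg : ∀ x, ap g (ap g x) = -x) :
    ∃ v : Fin (Fintype.card ι) → (ι → ZMod 3), (∀ i, Q (v i) = c) ∧
      ∀ i j, i ≠ j → polar ⇑Q (v i) (v j) = 0 := by
  classical
  have hself : ∀ x, polar ⇑Q x (ap g x) = 0 := fun x => by
    have := polar_ap g x (ap g x)
    rw [hg, pl_neg_right, pl_comm Q (ap g x) x] at this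
    exact zmod_three_neg_eq _ this
  have hskew : ∀ x y, polar ⇑Q (ap g x) y = -polar ⇑Q x (ap g y) := fun x y => by
    rw [← polar_ap g (ap g x) y, hg, pl_neg_left]
  have main : ∀ k, 2 * k ≤ Fintype.card ι → ∃ v : Fin k → (ι → ZMod 3), (∀ i, Q (v i) = c) ∧
      ∀ i j, i ≠ j → polar ⇑Q (v i) (v j) = 0 ∧ polar ⇑Q (v i) (ap g (v j)) = 0 := by
    intro k
    induction k with
    | zero => exact fun _ => ⟨Fin.elim0, fun i => i.elim0, fun i => i.elim0⟩
    | succ k ih =>
      intro hk
      obtain ⟨v, hv, ho⟩ := ih (by omega)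
      set f : (ι → ZMod 3) →ₗ[ZMod 3] (Fin k ⊕ Fin k → ZMod 3) :=
        LinearMap.pi (Sum.elim (fun i => Q.polarBilin (v i)) fun i => Q.polarBilin (ap g (v i))) with hf
      set W := LinearMap.ker f
      have mW : ∀ x, x ∈ W ↔ ∀ i, polar ⇑Q (v i) x = 0 ∧ polar ⇑Q (ap g (v i)) x = 0 := fun x => by
        rw [LinearMap.mem_ker]
        refine ⟨fun h i => ⟨congrFun h (Sum.inl i), congrFun h (Sum.inr i)⟩, fun h => funext fun s => ?_⟩
        rcases s with i | i
        exacts [(h i).1, (h i).2]
      have hd : 2 ≤ finrank (ZMod 3) W := by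
        have h1 := LinearMap.finrank_range_add_finrank_ker f
        have h2 := Submodule.finrank_le (LinearMap.range f)
        rw [Module.finrank_fintype_fun_eq_card, Fintype.card_sum, Fintype.card_fin] at h2
        rw [finrank_space] at h1
        show 2 ≤ finrank (ZMod 3) (LinearMap.ker f)
        omega
      have hnd : ∀ x ∈ W, x ≠ 0 → ∃ y ∈ W, polar ⇑Q x y ≠ 0 := by
        intro x hx hx0
        obtain ⟨y, hy⟩ := exists_polar_ne hQ hx0
        refine ⟨y - ∑ i, (polar ⇑Q (v i) y / (2 * c)) • v i -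
          ∑ i, (polar ⇑Q (ap g (v i)) y / (2 * c)) • ap g (v i), ?_, ?_⟩
        · have hdiag : ∀ w u : ι → ZMod 3, Q w = c → polar ⇑Q w u / (2 * c) * polar ⇑Q w w = polar ⇑Q w u :=
            fun w u hw => by rw [pl_self, hw, div_mul_cancel₀ _ (mul_ne_zero two_ne_zero_three hc)]
          have hsum : ∀ (a : ι → ZMod 3) (s : Fin k → ι → ZMod 3) (r : Fin k → ZMod 3),
              polar ⇑Q a (∑ i, r i • s i) = ∑ i, r i * polar ⇑Q a (s i) := fun a s r => by
            show Q.polarBilin a _ = _
            rw [map_sum]; simp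
          rw [mW]
          intro j
          constructor
          · rw [pl_sub_right, pl_sub_right, hsum, hsum, Finset.sum_eq_single j
              (fun i _ h => by rw [(ho j i h.symm).1, mul_zero]) (by simp), hdiag _ _ (hv j),
              Finset.sum_eq_zero (fun i _ => by
                rcases eq_or_ne i j with rfl | h
                · rw [hself, mul_zero]
                · rw [(ho j i h.symm).2, mul_zero]), sub_self, sub_zero]
          · rw [pl_sub_right, pl_sub_right, hsum, hsum, Finset.sum_eq_zero (fun i _ => by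
                rcases eq_or_ne i j with rfl | h
                · rw [hskew, hself, neg_zero, mul_zero]
                · rw [hskew, (ho j i h.symm).2, neg_zero, mul_zero]), Finset.sum_eq_single j
              (fun i _ h => by rw [polar_ap, (ho j i h.symm).1, mul_zero]) (by simp),
              hdiag _ _ (by rw [Q_ap]; exact hv j), sub_zero, sub_self]
        · have hz : ∀ (s : Fin k → ι → ZMod 3) (r : Fin k → ZMod 3), (∀ i, polar ⇑Q x (s i) = 0) →
              polar ⇑Q x (∑ i, r i • s i) = 0 := fun s r h => by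
            show Q.polarBilin x _ = _
            rw [map_sum, Finset.sum_eq_zero fun i _ => by simp [h i]]
          rwa [pl_sub_right, pl_sub_right, hz v _ (fun i => by rw [pl_comm]; exact ((mW x).1 hx i).1),
            hz (fun i => ap g (v i)) _ (fun i => by rw [pl_comm]; exact ((mW x).1 hx i).2), sub_zero, sub_zero]
      obtain ⟨w, hw, hQw⟩ := exists_Q_eq_in W hnd hd c
      rw [mW] at hw
      refine ⟨Fin.snoc v w, fun i => ?_, fun i j hij => ?_⟩
      · induction i using Fin.lastCases with
        | last => simpa using hQw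
        | cast i => simpa using hv i
      · induction i using Fin.lastCases with
        | last =>
          induction j using Fin.lastCases with
          | last => exact absurd rfl hij
          | cast j =>
            simp only [Fin.snoc_last, Fin.snoc_castSucc]
            exact ⟨by rw [pl_comm]; exact (hw j).1, by rw [pl_comm]; exact (hw j).2⟩
        | cast i =>
          induction j using Fin.lastCases with
          | last =>
            simp only [Fin.snoc_last, Fin.snoc_castSucc]
            exact ⟨(hw i).1, neg_eq_zero.1 ((hskew _ _).symm.trans (hw i).2)⟩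
          | cast j =>
            simp only [Fin.snoc_castSucc]
            exact ho i j fun h => hij (congrArg Fin.castSucc h)
  have heven : Even (Fintype.card ι) := by
    rw [← finrank_space (F := ZMod 3) (ι := ι)]
    exact even_finrank_of_sq zmod_three_no_sqrt (A := ap g) (LinearMap.ext fun x => hg x)
  obtain ⟨k, hk⟩ := heven
  obtain ⟨v, hv, ho⟩ := main k (by omega)
  let σ : Fin (Fintype.card ι) ≃ Fin k ⊕ Fin k := (finCongr hk).trans finSumFinEquiv.symm
  refine ⟨fun i => Sum.elim v (fun j => ap g (v j)) (σ i), fun i => ?_, fun i j hij => ?_⟩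
  · rcases hs : σ i with a | a <;> simp [hs, hv]
  · have hne : σ i ≠ σ j := fun h => hij (σ.injective h)
    rcases hs : σ i with a | a <;> rcases ht : σ j with b | b <;> simp only [hs, ht, Sum.elim_inl, Sum.elim_inr]
    · exact (ho a b fun h => hne (by rw [hs, ht, h])).1
    · rcases eq_or_ne a b with rfl | h
      exacts [hself _, (ho a b h).2]
    · rw [hskew]
      rcases eq_or_ne a b with rfl | h
      exacts [by rw [hself, neg_zero], by rw [(ho a b h).2, neg_zero]]
    · rw [polar_ap]
      exact (ho a b fun h => hne (by rw [hs, ht, h])).1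

/-- A reflection group with a shift has dimension eight and an orthogonal frame of norm `c`. -/
theorem refl_shift [Finite G] (hQ : Q.polarBilin.Nondegenerate) (hn : 5 ≤ Fintype.card ι) (hc : c ≠ 0)
    (he : e '' D = (QuotientGroup.mk : ↥(reflectionSubgroup (⇑Q) c) → _) '' reflSet Q c)
    (hD : IsThreeTranspositionSet D) (hpair : ∃ x ∈ D, ∃ x' ∈ D, x ≠ x' ∧ Commute x x') (hS : Shift D) :
    Fintype.card ι = 8 ∧ ∃ v : Fin (Fintype.card ι) → (ι → ZMod 3), (∀ i, Q (v i) = c) ∧
      ∀ i j, i ≠ j → polar ⇑Q (v i) (v j) = 0 := by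
  classical
  obtain ⟨φ, hφ⟩ := hS
  have hlift : ∀ x ∈ D, ∀ x' ∈ D, x ≠ x' → Commute x x' → ∀ (h : x * x' ∈ commutator G)
      (g : ↥(reflectionSubgroup (⇑Q) c)), e (φ ⟨x * x', h⟩) = QuotientGroup.mk g →
      ∀ v, ap (g : IsoGrp Q) (ap (g : IsoGrp Q) v) = -v := by
    intro x hx x' hx' hne hcom h g hg
    obtain ⟨_, -, hno⟩ := hφ x hx x' hx' hne hcom
    refine lift_of_no_fixed hQ hn hc he (b := φ ⟨x * x', h⟩) ?_ hno hg
    rw [← map_mul]
    refine (congrArg φ (Subtype.ext ?_)).trans (map_one φ)
    show x * x' * (x * x') = 1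
    rw [show x * x' * (x * x') = x' * (x * x) * x' by nth_rewrite 1 [hcom.eq]; group,
      mul_self hD hx, mul_one, mul_self hD hx']
  obtain ⟨x, hx, x', hx', hne, hcom⟩ := hpair
  obtain ⟨hmem, -, -⟩ := hφ x hx x' hx' hne hcom
  obtain ⟨g, hg⟩ := QuotientGroup.mk_surjective (e (φ ⟨x * x', hmem⟩))
  obtain ⟨v, hv, ho⟩ := exists_frame hQ hc (hlift x hx x' hx' hne hcom hmem g hg.symm)
  refine ⟨?_, v, hv, ho⟩
  set X := fun i => e.symm (reflQ (v i) (hv i)) with hX
  have hXD : ∀ i, X i ∈ D := fun i => reflQ_mem he _ _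
  have hXc : ∀ i j, Commute (X i) (X j) := by
    intro i j
    rcases eq_or_ne i j with rfl | hij
    · exact Commute.refl _
    refine (show Commute (reflQ (v i) (hv i)) (reflQ (v j) (hv j)) from ?_).map e.symm
    show QuotientGroup.mk _ * QuotientGroup.mk _ = QuotientGroup.mk _ * QuotientGroup.mk _
    rw [← QuotientGroup.mk_mul, ← QuotientGroup.mk_mul]
    refine congrArg QuotientGroup.mk (Subtype.ext ?_)
    show refl Q (v i) * refl Q (v j) = refl Q (v j) * refl Q (v i)
    rw [mul_refl, refl_ap_of_orth Q (ho i j hij)]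
  have hXne : ∀ i j, i ≠ j → X i ≠ X j := by
    intro i j hij h
    obtain ⟨k, hki, hkj⟩ : ∃ k, k ≠ i ∧ k ≠ j := by
      by_contra hall
      push Not at hall
      have hle := Finset.card_le_card (show (Finset.univ : Finset (Fin (Fintype.card ι))) ⊆ {i, j} from
        fun k _ => by
          rcases eq_or_ne k i with h | h
          · simp [h]
          · simp [hall k h])
      have h2 : ({i, j} : Finset (Fin (Fintype.card ι))).card ≤ 2 := Finset.card_le_two
      simp at hle
      omega
    have h' := QuotientGroup.eq.1 (e.symm.injective h)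
    have hQ0 : ∀ l, Q (v l) ≠ 0 := fun l => hv l ▸ hc
    have hne0 : ∀ l, v l ≠ 0 := fun l h0 => hQ0 l (by rw [h0, QuadraticMap.map_zero])
    have key : ∀ w : ι → ZMod 3, w = -w → w = 0 := fun w hw =>
      funext fun t => zmod_three_neg_eq (w t) (congrFun hw t).symm
    rcases scalar_pm hQ hn hc h' with h1 | h1
    · have := h1 (v i)
      simp only [Subgroup.coe_mul, Subgroup.coe_inv, refl_inv, ap_mul, refl_ap_of_orth Q (ho j i hij.symm),
        refl_ap_self Q (hQ0 i)] at this
      exact hne0 i (key _ this.symm)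
    · have := h1 (v k)
      simp only [Subgroup.coe_mul, Subgroup.coe_inv, refl_inv, ap_mul, refl_ap_of_orth Q (ho j k hkj.symm),
        refl_ap_of_orth Q (ho i k hki.symm)] at this
      exact hne0 k (key _ this)
  -- square roots of minus one
  obtain ⟨m, hm⟩ : ∃ m, Fintype.card ι = m + 1 := ⟨Fintype.card ι - 1, by omega⟩
  let o : Fin (Fintype.card ι) := ⟨0, by omega⟩
  let s : Fin m → Fin (Fintype.card ι) := fun i => ⟨i.1 + 1, by omega⟩
  have hso : ∀ i, s i ≠ o := fun i h => by simpa [s, o] using congrArg Fin.val h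
  have hsinj : ∀ i j, i ≠ j → s i ≠ s j := fun i j h e' => h (Fin.ext (by simpa [s] using congrArg Fin.val e'))
  have hmem0 : ∀ i, X o * X (s i) ∈ commutator G := fun i =>
    (hφ _ (hXD o) _ (hXD (s i)) (hXne _ _ (hso i).symm) (hXc _ _)).1
  choose g hg using fun i => QuotientGroup.mk_surjective (e (φ ⟨X o * X (s i), hmem0 i⟩))
  let K : Fin m → Module.End (ZMod 3) (ι → ZMod 3) := fun i => ap (g i : IsoGrp Q)
  have hsq : ∀ i, K i * K i = -1 := fun i => LinearMap.ext fun w => by
    simpa [K] using hlift _ (hXD o) _ (hXD (s i)) (hXne _ _ (hso i).symm) (hXc _ _) (hmem0 i) (g i)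
      (hg i).symm w
  have hac : ∀ i j, i ≠ j → K i * K j = -(K j * K i) := by
    intro i j hij
    have hsij := hsinj i j hij
    have hij' : X (s i) * X (s j) ∈ commutator G :=
      (hφ _ (hXD (s i)) _ (hXD (s j)) (hXne _ _ hsij) (hXc _ _)).1
    have hprod : φ ⟨X o * X (s i), hmem0 i⟩ * φ ⟨X o * X (s j), hmem0 j⟩ = φ ⟨X (s i) * X (s j), hij'⟩ := by
      rw [← map_mul]
      refine congrArg φ (Subtype.ext ?_)
      show X o * X (s i) * (X o * X (s j)) = X (s i) * X (s j)
      rw [(hXc o (s i)).eq, mul_assoc, mul_self_cancel hD (hXD o)]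
    have h2 : ∀ w, K i (K j (K i (K j w))) = -w := fun w => by
      simpa [K] using hlift _ (hXD (s i)) _ (hXD (s j)) (hXne _ _ hsij) (hXc _ _) hij' (g i * g j)
        (by rw [← hprod, map_mul, ← hg i, ← hg j, QuotientGroup.mk_mul]) w
    have hKK : ∀ l w, K l (K l w) = -w := fun l w => by
      simpa using DFunLike.congr_fun (hsq l) w
    refine LinearMap.ext fun w => ?_
    -- apply the relation to `K j w`
    have h3 := congrArg (fun u => K j (K i u)) (h2 w)
    simp only [map_neg, hKK, neg_neg] at h3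
    show K i (K j w) = -(K j (K i w))
    exact h3
  have hnt : Nontrivial (ι → ZMod 3) := by
    have : Nonempty ι := Fintype.card_pos_iff.1 (by omega)
    infer_instance
  have hev : Even (Fintype.card ι) := by
    rw [← finrank_space (F := ZMod 3) (ι := ι)]
    exact even_finrank_of_sq zmod_three_no_sqrt (hsq ⟨0, by omega⟩)
  obtain ⟨r, hr⟩ := hev
  have hle := two_pow_le_of_anticomm two_ne_zero_three (k := m - 1) ⟨r - 1, by omega⟩
    (fun i => K ⟨i.1, by omega⟩) (fun i => hsq _)
    (fun i j h => hac _ _ fun e' => h (Fin.ext (by simpa using congrArg Fin.val e')))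
  rw [finrank_space] at hle
  have h4 : 6 ≤ Fintype.card ι → 4 ∣ Fintype.card ι := fun h6 => by
    rw [← finrank_space (F := ZMod 3) (ι := ι)]
    exact four_dvd_of_anticomm two_ne_zero_three zmod_three_no_sqrt (fun i => K ⟨i.1, by omega⟩)
      (fun i => hsq _) (fun i j h => hac _ _ fun e' => h (Fin.ext (by simpa using congrArg Fin.val e')))
  have hgrow : ∀ a, 10 ≤ a → a * a < 2 ^ (a - 2) := by
    intro a ha
    induction a, ha using Nat.le_induction with
    | base => norm_num
    | succ b hb ih =>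
      rw [show b + 1 - 2 = (b - 2) + 1 by omega, pow_succ]
      nlinarith [ih]
  by_contra h8
  rcases Nat.lt_or_ge (Fintype.card ι) 10 with h | h
  · have := h4 (by omega); omega
  · have := hgrow _ h
    rw [show m - 1 = Fintype.card ι - 2 by omega] at hle
    omega

end Cfsg.Agent.Disconn
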