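/-
The layer in the two exceptional cases.

Main results: `out_congr`, `frame_similar`, `plusFrame`, `omega_of_plus`, `pomega_of_refl`.
-/
import Cfsg.Agent.Lib.ThreeTrans.Disconnected.ReflFixed
import Cfsg.Agent.Lib.ThreeTrans.Disconnected.OrthTwo

set_option autoImplicit false

namespace Cfsg.Agent.Disconn

open Cfsg Cfsg.Agent.Orth Cfsg.Agent.ThreeTrans Module
open QuadraticMap (polar)

/-- Isomorphic groups have isomorphic outer automorphism groups. -/
theorem out_congr {A B : Type*} [Group A] [Group B] (e : A ≃* B) : Nonempty (Cfsg.Out A ≃* Cfsg.Out B) := by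
  refine ⟨QuotientGroup.congr _ _ (MulAut.congr e) ?_⟩
  ext φ
  constructor
  · rintro ⟨_, ⟨g, rfl⟩, rfl⟩
    exact ⟨e g, MulEquiv.ext fun k => by simp [MulAut.congr]⟩
  · rintro ⟨g, rfl⟩
    exact ⟨MulAut.conj (e.symm g), ⟨_, rfl⟩, MulEquiv.ext fun k => by simp [MulAut.congr]⟩

/-- A simple group that is not abelian has trivial centre. -/
theorem center_eq_bot {A : Type*} [Group A] [IsSimpleGroup A] (hna : ∃ x y : A, x * y ≠ y * x) :
    Subgroup.center A = ⊥ := by
  refine (Subgroup.Normal.eq_bot_or_eq_top inferInstance).resolve_right fun h => ?_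
  obtain ⟨x, y, hxy⟩ := hna
  exact hxy (Subgroup.mem_center_iff.1 (h ▸ Subgroup.mem_top y) x)

/-- An isomorphism carries the centre onto the centre. -/
theorem map_center_equiv {A B : Type*} [Group A] [Group B] (e : A ≃* B) :
    (Subgroup.center A).map e.toMonoidHom = Subgroup.center B := by
  ext y
  obtain ⟨w, rfl⟩ := e.surjective y
  rw [show e w = e.toMonoidHom w from rfl, Subgroup.mem_map_iff_mem e.injective, Subgroup.mem_center_iff,
    Subgroup.mem_center_iff]
  exact ⟨fun h g => by obtain ⟨u, rfl⟩ := e.surjective g; simp [← map_mul, h u],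
    fun h u => e.injective (by simpa [map_mul] using h (e u))⟩

/-- A surjection with central kernel onto a group with trivial centre kills exactly the centre. -/
theorem ker_eq_center {A B : Type*} [Group A] [Group B] (f : A →* B) (hf : Function.Surjective f)
    (hsub : f.ker ≤ Subgroup.center A) (hB : Subgroup.center B = ⊥) : f.ker = Subgroup.center A := by
  refine le_antisymm hsub fun w h => ?_
  have : f w ∈ Subgroup.center B := Subgroup.mem_center_iff.2 fun y => by
    obtain ⟨u, rfl⟩ := hf y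
    rw [← map_mul, ← map_mul, Subgroup.mem_center_iff.1 h u]
  rwa [hB, Subgroup.mem_bot, ← MonoidHom.mem_ker] at this

/-- An isomorphism carries the derived group onto the derived group. -/
noncomputable def commutatorEquiv {A B : Type*} [Group A] [Group B] (e : A ≃* B) :
    ↥(commutator A) ≃* ↥(commutator B) :=
  ((commutator A).equivMapOfInjective e.toMonoidHom e.injective).trans (MulEquiv.subgroupCongr (by
    rw [commutator_def, commutator_def, Subgroup.map_commutator, Subgroup.map_top_of_surjective _ e.surjective]))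

variable {G : Type*} [Group G] [IsSimpleGroup ↥(commutator G)]

/-- The derived group of a group isomorphic to `O(Q)`. -/
theorem pomega_of_iso {ι : Type} [Fintype ι] [DecidableEq ι] {F : Type*} [Field F] {Qf : (ι → F) → F}
    (hna : ∃ x y : ↥(commutator G), x * y ≠ y * x) (e : G ≃* ↥(isometryGroup F Qf)) :
    Nonempty (↥(commutator G) ≃* ↥(Omega F Qf)) ∧ Nonempty (↥(commutator G) ≃* POmega F Qf) := by
  have eO : ↥(commutator G) ≃* ↥(Omega F Qf) := commutatorEquiv e
  have hs : IsSimpleGroup ↥(Omega F Qf) := eO.symm.isSimpleGroup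
  have hc : Subgroup.center ↥(Omega F Qf) = ⊥ := center_eq_bot (by
    obtain ⟨x, y, hxy⟩ := hna
    exact ⟨eO x, eO y, fun h => hxy (eO.injective (by rwa [map_mul, map_mul]))⟩)
  exact ⟨⟨eO⟩, ⟨eO.trans (QuotientGroup.quotientBot.symm.trans (QuotientGroup.quotientMulEquivOfEq hc.symm))⟩⟩

variable {ι : Type} [Fintype ι] [DecidableEq ι] {Q : QuadraticForm (ZMod 3) (ι → ZMod 3)} {c : ZMod 3}

omit [IsSimpleGroup ↥(commutator G)] in
/-- An orthogonal frame of norm `c` makes a form similar to the sum of squares. -/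
theorem frame_similar (hc : c ≠ 0) {n : ℕ} (hn : Fintype.card ι = n) (v : Fin n → (ι → ZMod 3))
    (hv : ∀ i, Q (v i) = c) (ho : ∀ i j, i ≠ j → polar ⇑Q (v i) (v j) = 0) :
    ∃ E : (Fin n → ZMod 3) ≃ₗ[ZMod 3] (ι → ZMod 3), ∀ w, Q (E w) = c * ∑ i, w i * w i := by
  classical
  let T : (Fin n → ZMod 3) →ₗ[ZMod 3] (ι → ZMod 3) := Fintype.linearCombination (ZMod 3) v
  have hT : ∀ w, T w = ∑ i, w i • v i := fun w => by simp [T, Fintype.linearCombination_apply]
  have hcoef : ∀ w i, polar ⇑Q (v i) (T w) = w i * (2 * c) := fun w i => by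
    show Q.polarBilin (v i) (T w) = _
    rw [hT, map_sum, Finset.sum_eq_single i (fun j _ h => by simp [ho i j h.symm]) (by simp)]
    simp [pl_self, hv]
  have hinj : Function.Injective T := fun w w' e => funext fun i => by
    have := hcoef w i
    rw [e, hcoef] at this
    exact (mul_right_cancel₀ (mul_ne_zero two_ne_zero_three hc) this).symm
  refine ⟨LinearMap.linearEquivOfInjective T hinj (by simp [hn]), fun w => ?_⟩
  rw [LinearMap.linearEquivOfInjective_apply]
  have h2 : polar ⇑Q (T w) (T w) = ∑ i, w i * (w i * (2 * c)) := by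
    show Q.polarBilin (T w) (T w) = _
    conv_lhs => arg 1; arg 2; rw [hT]
    rw [map_sum, LinearMap.sum_apply]
    refine Finset.sum_congr rfl fun i _ => ?_
    simp [← hcoef w i]
  rw [pl_self, Finset.sum_congr rfl (fun i _ => show w i * (w i * (2 * c)) = 2 * (c * (w i * w i)) by ring),
    ← Finset.mul_sum, ← Finset.mul_sum] at h2
  exact mul_left_cancel₀ two_ne_zero_three h2

/-- A frame of norm `c` in the hyperbolic form of dimension eight. -/
def plusFrame (c : ZMod 3) : Fin 8 → (Fin 4 ⊕ Fin 4 → ZMod 3) :=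
  ![Sum.elim ![1, 0, 0, 0] ![c, 0, 0, 0], Sum.elim ![0, 1, 0, 0] ![0, c, 0, 0],
    Sum.elim ![1, 1, 0, 0] ![-c, -c, 0, 0], Sum.elim ![1, -1, 0, 0] ![-c, c, 0, 0],
    Sum.elim ![0, 0, 1, 0] ![0, 0, c, 0], Sum.elim ![0, 0, 0, 1] ![0, 0, 0, c],
    Sum.elim ![0, 0, 1, 1] ![0, 0, -c, -c], Sum.elim ![0, 0, 1, -1] ![0, 0, -c, c]]

theorem plusFrame_spec : ∀ c : ZMod 3, (∀ i, quadFormPlus 4 (ZMod 3) (plusFrame c i) = c) ∧
    ∀ i j, i ≠ j → quadFormPlus 4 (ZMod 3) (plusFrame c i + plusFrame c j) -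
      quadFormPlus 4 (ZMod 3) (plusFrame c i) - quadFormPlus 4 (ZMod 3) (plusFrame c j) = 0 := by
  decide +kernel

/-- The derived group of a reflection group with a frame of dimension eight. -/
theorem pomega_of_refl [Finite G] (hna : ∃ x y : ↥(commutator G), x * y ≠ y * x)
    (hQ : Q.polarBilin.Nondegenerate) (hn : Fintype.card ι = 8) (hc : c ≠ 0)
    (e : G ≃* ↥(reflectionSubgroup (⇑Q) c) ⧸ Subgroup.center ↥(reflectionSubgroup (⇑Q) c))
    (v : Fin 8 → (ι → ZMod 3)) (hv : ∀ i, Q (v i) = c) (ho : ∀ i j, i ≠ j → polar ⇑Q (v i) (v j) = 0) :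
    Nonempty (↥(commutator G) ≃* POmega (ZMod 3) (quadFormPlus 4 (ZMod 3))) := by
  classical
  have hn5 : 5 ≤ Fintype.card ι := by omega
  set R := reflectionSubgroup (⇑Q) c
  set L := commutator ↥R with hL
  set Z := Subgroup.center ↥R
  have eC : ↥(commutator G) ≃* ↥(commutator (↥R ⧸ Z)) := commutatorEquiv e
  have hmap : L.map (QuotientGroup.mk' Z) = commutator (↥R ⧸ Z) := by
    rw [hL, commutator_def, commutator_def, Subgroup.map_commutator,
      Subgroup.map_top_of_surjective _ (QuotientGroup.mk'_surjective Z)]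
  let f : ↥L →* ↥(commutator (↥R ⧸ Z)) :=
    ((QuotientGroup.mk' Z).comp L.subtype).codRestrict _ fun w => hmap.le ⟨w, w.2, rfl⟩
  have hfs : Function.Surjective f := by
    rintro ⟨q, hq⟩
    obtain ⟨w, hw, rfl⟩ := hmap.ge hq
    exact ⟨⟨w, hw⟩, rfl⟩
  have hs : IsSimpleGroup ↥(commutator (↥R ⧸ Z)) := eC.symm.isSimpleGroup
  have hna' : ∃ x y : ↥(commutator (↥R ⧸ Z)), x * y ≠ y * x := by
    obtain ⟨x, y, hxy⟩ := hna
    exact ⟨eC x, eC y, fun h => hxy (eC.injective (by rwa [map_mul, map_mul]))⟩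
  have hsub : f.ker ≤ Subgroup.center ↥L := fun w h => by
    have h' : (w : ↥R) ∈ Z := (QuotientGroup.eq_one_iff _).1 (congrArg Subtype.val (MonoidHom.mem_ker.1 h))
    exact Subgroup.mem_center_iff.2 fun v => Subtype.ext (Subgroup.mem_center_iff.1 h' v)
  have hker : f.ker = Subgroup.center ↥L := ker_eq_center f hfs hsub (center_eq_bot hna')
  let eL : ↥L ≃* ↥(Omega (ZMod 3) ⇑Q) :=
    (L.equivMapOfInjective R.subtype (Subgroup.subtype_injective _)).trans
      (MulEquiv.subgroupCongr (map_commutator_reflSub hQ hn5 hc))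
  have heZ : (Subgroup.center ↥L).map eL.toMonoidHom = Subgroup.center ↥(Omega (ZMod 3) ⇑Q) :=
    map_center_equiv eL
  let e₁ : ↥(commutator (↥R ⧸ Z)) ≃* POmega (ZMod 3) ⇑Q :=
    (QuotientGroup.quotientKerEquivOfSurjective f hfs).symm.trans
      ((QuotientGroup.quotientMulEquivOfEq hker).trans (QuotientGroup.congr _ _ eL heZ))
  obtain ⟨E, hE⟩ := frame_similar hc hn v hv ho
  obtain ⟨E', hE'⟩ := frame_similar (Q := Orth.quadPlus 4 (ZMod 3)) hc (n := 8) (by simp) (plusFrame c)
    (plusFrame_spec c).1 (plusFrame_spec c).2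
  obtain ⟨e₂⟩ := OrthBN.pomega_congr ((Forms.isometryGroupEquiv (quadFormPlus 4 (ZMod 3))).trans
    ((Forms.preservingFunCongr (quadFormPlus 4 (ZMod 3)) (⇑Q) (E'.symm.trans E) 1 one_ne_zero
      (fun x => by
        rw [one_mul, LinearEquiv.trans_apply, hE, ← hE', E'.apply_symm_apply]; rfl)).trans
      (Forms.isometryGroupEquiv (⇑Q)).symm))
  exact ⟨(eC.trans e₁).trans e₂.symm⟩

end Cfsg.Agent.Disconn
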