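/-
The triality theorem for classes of 3-transpositions with disconnected commuting graph.

Main results: `Tri.shift`, `Tri.top_cases`, `disconnected_cases`.
-/
import Cfsg.Agent.Lib.ThreeTrans.Disconnected.Iso
import Cfsg.Agent.Lib.FischerPolar.SimpleCases
import Cfsg.Agent.Lib.FischerM24.Fixed
import Cfsg.Agent.Lib.AutPOmega.OutPlus
import Cfsg.Agent.Lib.Triality.Out

set_option autoImplicit false

namespace Cfsg.Agent.Disconn

open Cfsg Cfsg.Agent.ThreeTrans Cfsg.Agent.ThreeTransRank Cfsg.Agent.FischerPolar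
open QuadraticMap (polar)

universe u

variable {G : Type u} [Group G] [Finite G] {D : Set G} {L : Subgroup G}

theorem fst_comp_injective {A B C : Type*} [Group A] [Group B] [Group C] [Subsingleton C] (e : A ≃* B × C) :
    Function.Injective ((MonoidHom.fst B C).comp e.toMonoidHom) := fun _ _ h =>
  e.injective (Prod.ext h (Subsingleton.elim _ _))

namespace Tri

variable (T : Tri D L)
include T

theorem nonab : ∃ x y : ↥L, x * y ≠ y * x := by
  by_contra h
  push Not at h
  have := T.simple
  have hne : L ≠ ⊥ := (Subgroup.nontrivial_iff_ne_bot L).1 inferInstance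
  refine hne (T.perf.symm.trans (Subgroup.commutator_eq_bot_iff_le_centralizer.2 fun x hx => ?_))
  exact Subgroup.mem_centralizer_iff.2 fun y hy => congrArg Subtype.val (h ⟨y, hy⟩ ⟨x, hx⟩)

theorem top_pair {d : G} (hd : d ∈ D) : ∃ x ∈ T.topD hd, ∃ x' ∈ T.topD hd, x ≠ x' ∧ Commute x x' := by
  obtain ⟨k, hk, hne, hcom⟩ := T.pairs d hd
  exact ⟨⟨d, T.mem_top_self hd⟩, ⟨1, L.one_mem, by simp⟩,
    ⟨k * d * k⁻¹, T.part_le_top hd (T.conj_mem_part hd hk)⟩, ⟨k, hk, rfl⟩,
    fun h => hne (congrArg Subtype.val h).symm, Subtype.ext hcom⟩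

/-- Conjugation to another part is a shift. -/
theorem shift {d : G} (hd : d ∈ D) : Shift (T.topD hd) := by
  obtain ⟨g, hg⟩ := T.transport hd
  have hmem : ∀ w : ↥(commutator ↥(T.top hd)), g⁻¹ * ((w : ↥(T.top hd)) : G) * g ∈ T.top hd := fun w =>
    T.le_top hd (by simpa using T.conjL (show ((w : ↥(T.top hd)) : G) ∈ L from
      (T.top_commutator hd).le w.2) g⁻¹)
  refine ⟨{ toFun := fun w => ⟨_, hmem w⟩
            map_one' := Subtype.ext (by simp)
            map_mul' := fun v w => Subtype.ext (by simp [mul_assoc]) }, fun x hx x' hx' hne hcom => ?_⟩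
  have hxp := T.topD_part hd hx
  have hxp' := T.topD_part hd hx'
  have hxL : (x : G) * (x' : G) ∈ L := by
    have h := L.mul_mem (L.inv_mem hxp.2) hxp'.2
    rwa [show ((d⁻¹ * (x : G))⁻¹ * (d⁻¹ * (x' : G))) = (x : G)⁻¹ * x' by group,
      inv_eq T.set hxp.1] at h
  refine ⟨(T.top_commutator hd).ge hxL, fun h => hne ?_, fun u hu hcu => hg x hxp x' hxp'
    (fun e => hne (Subtype.ext e)) (congrArg Subtype.val hcom.eq) u (T.topD_part hd hu)
    (congrArg Subtype.val hcu.eq)⟩
  have h' : g⁻¹ * ((x : G) * (x' : G)) * g = 1 := congrArg Subtype.val h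
  have h'' : (x : G) * (x' : G) = 1 := by simpa [mul_assoc] using congrArg (fun z => g * z * g⁻¹) h'
  rw [mul_eq_one_iff_inv_eq, inv_eq T.set hxp.1] at h''
  exact Subtype.ext h''

/-- No triality without an outer automorphism of order three. -/
theorem false_of_out {X : Type*} [Group X] (e : ↥L ≃* X) (h : ¬ 3 ∣ Nat.card (Cfsg.Out X)) : False := by
  obtain ⟨e'⟩ := out_congr e
  exact h (Nat.card_congr e'.toEquiv ▸ T.three_dvd_out)

theorem quotient_of_out [L.Normal] {X : Type*} [Group X] (e : ↥L ≃* X)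
    (f : Cfsg.Out X →* Equiv.Perm (Fin 4)) (hf : Function.Injective f) :
    Nonempty (G ⧸ L ≃* Equiv.Perm (Fin 3)) := by
  obtain ⟨e'⟩ := out_congr e
  refine T.quotient_perm_three (f.comp (e'.toMonoidHom.comp T.outAct)) ?_
  rw [← MonoidHom.comap_ker, (MonoidHom.ker_eq_bot_iff f).2 hf, MonoidHom.comap_bot,
    show (e'.toMonoidHom.comp T.outAct).ker = T.outAct.ker from Subgroup.ext fun g => by simp, T.outAct_ker]

end Tri

/-- The classification with central local cores, as a hypothesis. -/
def CentralClassification : Prop :=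
  ∀ (X : Type u) [Group X] [Finite X] (E : Set X), IsThreeTranspositionGroup E → IsPrimitiveUnderConj E →
    Subgroup.center X = ⊥ → TrivialRadical X → ConnectedComm E →
    (∀ x ∈ E, (adj E x).Nonempty ∧ CentralCores (Loc E x)) → CentralConcl X E

/-- The layer and the quotient. -/
theorem Tri.top_cases (T : Tri D L) (hmain : CentralClassification.{u}) [L.Normal] :
    Nonempty (G ⧸ L ≃* Equiv.Perm (Fin 3)) ∧
      (Nonempty (↥L ≃* Omega (ZMod 2) (quadFormPlus 4 (ZMod 2))) ∨
        Nonempty (↥L ≃* POmega (ZMod 3) (quadFormPlus 4 (ZMod 3)))) := by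
  obtain ⟨d, hd, -⟩ := id T.cls.2.1
  set X := ↥(T.top hd)
  set E := T.topD hd with hE
  have hcl : IsThreeTranspositionClass E := T.top_class hd
  have hgr := group_of_class hcl
  have hZ : Subgroup.center X = ⊥ := T.top_center hd
  have hS : IsSimpleGroup ↥(commutator X) := T.top_simple hd
  have hna : ∃ x y : ↥(commutator X), x * y ≠ y * x := by
    obtain ⟨x, y, hxy⟩ := T.nonab
    exact ⟨(T.topEquiv hd).symm x, (T.topEquiv hd).symm y,
      fun h => hxy ((T.topEquiv hd).symm.injective (by rwa [map_mul, map_mul]))⟩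
  have hnsol : ¬ Group.IsSolvable ↥(commutator X) := fun h => by
    obtain ⟨x, y, hxy⟩ := hna
    exact hxy (IsSimpleGroup.comm_iff_isSolvable.2 h x y)
  have hperf : ⁅commutator X, commutator X⁆ = commutator X := by
    rw [T.top_commutator hd]
    refine Subgroup.map_injective (T.top hd).subtype_injective ?_
    rw [Subgroup.map_commutator, Subgroup.map_subgroupOf_eq_of_le (T.le_top hd), T.perf]
  have hrad := trivialRadical_of_simple_commutator hZ hS hnsol
  have hc := centralCores_of_trivialRadical hrad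
  have hconn := connected_of_perfect hcl hperf
  obtain ⟨p, hp, p', hp', hpne, hpcom⟩ := T.top_pair hd
  have hadj : ∀ x ∈ E, (adj E x).Nonempty := fun x hx =>
    adj_nonempty_all hcl hp hx ⟨p', hp', hpne.symm, hpcom⟩
  have kill : (∀ a : X, a * a = 1 → a ≠ 1 → ∃ u ∈ E, Commute a u) → False := fun H =>
    T.top_false_of_fixed hd fun a _ h1 h2 => H a h1 h2
  -- non-central local cores
  by_cases h2c : ∃ x ∈ E, ¬ pCore 2 ↥(Loc E x) ≤ Subgroup.center ↥(Loc E x)
  · obtain ⟨x, hx, hx2⟩ := h2c
    exact (kill fun a ha _ => pre_fixed (pre_of_not_central hrad hcl hconn hx hx2) ha).elim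
  by_cases h3c : ∃ x ∈ E, ¬ pCore 3 ↥(Loc E x) ≤ Subgroup.center ↥(Loc E x)
  · obtain ⟨x, hx, hx3⟩ := h3c
    obtain ⟨e⟩ := CoreNoncentral.equiv_perm_five hrad hperf hcl hx fun h =>
      hx3 (SolvLocal.pCore_three_le_oddCore.trans h)
    exact (kill fun a ha ha1 =>
      perm_fixed (swaps_of_class (by norm_num) swap_of_odd_involution hcl e) ha ha1).elim
  push Not at h2c h3c
  have hprim := primitive_of_connected hcl ⟨p, hp, p', hp', hpne⟩ hc hconn
  have hperfect_kill : commutator X = ⊤ → False := fun h => T.notMem d hd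
    ((T.top_commutator hd).le (h.ge (Subgroup.mem_top (⟨d, T.mem_top_self hd⟩ : X))))
  rcases hmain X E hgr hprim hZ hrad hconn (fun x hx => ⟨hadj x hx, h2c x hx, h3c x hx⟩) with
    ⟨n, -, e, he⟩ | (⟨m, hm, e, he⟩ | ⟨m, -, e, he⟩) | ⟨n, hn, Q, hQ, c, hc0, e, he⟩ | h | h | h
  · exact (kill fun a ha ha1 => perm_fixed he ha ha1).elim
  · -- orthogonal groups of plus type over two elements
    have hev : Even m := Nat.not_odd_iff_even.1 fun hodd => kill fun a ha _ => plus_fixed hodd e he ha
    obtain ⟨⟨eO⟩, ⟨eP⟩⟩ := pomega_of_iso hna e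
    have eL := (T.topEquiv hd).symm
    rcases Nat.lt_or_ge m 5 with hm5 | hm5
    · obtain rfl : m = 4 := by obtain ⟨r, rfl⟩ := hev; omega
      obtain ⟨eout⟩ := Triality.out_eight_two (F := ZMod 2) (f := 1) le_rfl (by simp [ZMod.card])
      refine ⟨T.quotient_of_out (eL.trans eP) ((Equiv.Perm.extendDomainHom
        (Fin.castSuccEmb (n := 3)).toEquivRange).comp ((MonoidHom.fst _ _).comp eout.toMonoidHom)) ?_,
        Or.inl ⟨eL.trans eO⟩⟩
      exact (Equiv.Perm.extendDomainHom_injective _).comp (fst_comp_injective eout)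
    · obtain ⟨eout⟩ := AutPOmega.out_plus_two (F := ZMod 2) (f := 1) le_rfl (by simp [ZMod.card]) hm5
      refine (T.false_of_out (eL.trans eP) ?_).elim
      rw [Nat.card_congr eout.toEquiv]
      simp
  · exact (kill fun a ha _ => minus_fixed e he ha).elim
  · -- reflection groups over three elements
    obtain ⟨h8, v, hv, ho⟩ := refl_shift hQ (by simpa using hn) hc0 he hgr.1
      ⟨p, hp, p', hp', hpne, hpcom⟩ (T.shift hd)
    obtain ⟨eP⟩ := pomega_of_refl hna hQ h8 hc0 e (fun i => v (finCongr h8.symm i)) (fun i => hv _)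
      fun i j h => ho _ _ fun h' => h ((finCongr h8.symm).injective h')
    have eL := (T.topEquiv hd).symm
    have : Fact (Nat.Prime 3) := ⟨Nat.prime_three⟩
    obtain ⟨eout⟩ := Triality.out_eight_odd (F := ZMod 3) (p := 3) (f := 1) le_rfl (by simp [ZMod.card])
      (by norm_num)
    refine ⟨T.quotient_of_out (eL.trans eP) ((MonoidHom.fst _ _).comp eout.toMonoidHom)
      (fst_comp_injective eout),
      Or.inr ⟨eL.trans eP⟩⟩
  · exact (hperfect_kill (FischerM22.commutator_eq_top (FischerM22.setup_of_primitive hgr hprim h))).elim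
  · exact (hperfect_kill (FischerM23.commutator_eq_top (FischerM23.setup_of_primitive hgr hprim h))).elim
  · exact (kill fun a ha _ => FischerM24.exists_fixed_member (FischerM24.setup_of_primitive hgr hprim h) ha).elim

theorem disconnected_cases (hmain : CentralClassification.{u}) (hD : IsThreeTranspositionClass D)
    (hZ : Subgroup.center G = ⊥) (h2 : pCore 2 G = ⊥) (h3 : pCore 3 G = ⊥)
    (hdisc : ¬ (commutingGraph D).Connected) (F : Subgroup G) [F.Normal]
    (hF : F = generalizedFittingSubgroup G) :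
    Nonempty (G ⧸ F ≃* Equiv.Perm (Fin 3)) ∧
      (Nonempty (↥F ≃* Omega (ZMod 2) (quadFormPlus 4 (ZMod 2))) ∨
        Nonempty (↥F ≃* POmega (ZMod 3) (quadFormPlus 4 (ZMod 3)))) := by
  obtain ⟨L, T, hL⟩ := exists_tri hD hZ h2 h3 hdisc
  obtain rfl : F = L := hF.trans hL
  exact T.top_cases hmain

end Cfsg.Agent.Disconn
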